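import Cfsg.Agent.PSpFourNormM.Frame

/-!
Coordinates adapted to a Sylow subgroup and an elementary subgroup of order `q³`, and the action of
the normaliser on the latter.
-/

set_option autoImplicit false
set_option linter.unusedSectionVars false
set_option linter.style.haveILetI false

open scoped Classical

namespace CfsgLib.PSpFourNormM

variable {F : Type*} [Field F] {G : Type*} [Group G]

namespace Frame

variable {C : Subgroup G} (Φ : Frame F C)

/-- The Sylow subgroup in coordinates. -/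
def pSub : Subgroup G where
  carrier := {g | ∃ (u : V F) (t : F), g = Φ.mM u * Φ.sS t}
  one_mem' := ⟨0, 0, by rw [mM_zero, sS_zero, one_mul]⟩
  mul_mem' := by
    rintro _ _ ⟨u, t, rfl⟩ ⟨u', t', rfl⟩
    refine ⟨u + sU t u', t + t', ?_⟩
    rw [mM_add, sS_add, mul_assoc, ← mul_assoc (Φ.sS t), sS_mM]
    simp only [mul_assoc]
  inv_mem' := by
    rintro _ ⟨u, t, rfl⟩
    refine ⟨sU (-t) (-u), -t, ?_⟩
    rw [← Φ.sS_mM, inv_eq_iff_mul_eq_one]
    calc Φ.mM u * Φ.sS t * (Φ.sS (-t) * Φ.mM (-u))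
        = Φ.mM u * (Φ.sS t * Φ.sS (-t)) * Φ.mM (-u) := by group
      _ = 1 := by rw [← sS_add, add_neg_cancel, sS_zero, mul_one, ← mM_add, add_neg_cancel, mM_zero]

theorem pSub_le : Φ.pSub ≤ C := by
  rintro _ ⟨u, t, rfl⟩
  exact C.mul_mem (Φ.mM_mem u) (Φ.el_mem _ _)

theorem mM_mem_pSub (u : V F) : Φ.mM u ∈ Φ.pSub := ⟨u, 0, by rw [sS_zero, mul_one]⟩

theorem sS_mem_pSub (t : F) : Φ.sS t ∈ Φ.pSub := ⟨0, t, by rw [mM_zero, one_mul]⟩

theorem pSub_inj {u u' : V F} {t t' : F} (h : Φ.mM u * Φ.sS t = Φ.mM u' * Φ.sS t') :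
    u = u' ∧ t = t' := by
  have := Φ.mM_sS_hH_inj (u := u) (u' := u') (t := t) (t' := t') (l := 1) (l' := 1) (by rw [h])
  exact ⟨this.1, this.2.1⟩

theorem card_pSub [Fintype F] : Nat.card Φ.pSub = Fintype.card F ^ 4 := by
  let φ : V F × F → Φ.pSub := fun x => ⟨Φ.mM x.1 * Φ.sS x.2, x.1, x.2, rfl⟩
  have hφ : Function.Bijective φ :=
    ⟨fun x y h => Prod.ext (Φ.pSub_inj (congrArg Subtype.val h)).1 (Φ.pSub_inj (congrArg Subtype.val h)).2,
      fun ⟨_, u, t, e⟩ => ⟨(u, t), Subtype.ext e.symm⟩⟩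
  rw [← Nat.card_eq_of_bijective φ hφ, Nat.card_prod]
  show Nat.card (F × F × F) * _ = _
  rw [Nat.card_prod, Nat.card_prod, Nat.card_eq_fintype_card]
  ring

theorem central_mM (a : F) (g : G) (hg : g ∈ C) : g * Φ.mM (a, 0, 0) = Φ.mM (a, 0, 0) * g := by
  obtain ⟨v, A, rfl⟩ := (Φ.mem_iff g).mp hg
  rw [mM, Φ.mul, Φ.mul]
  simp only [uS_zero, one_mul, mul_one]
  congr 1
  obtain ⟨p', q', c⟩ := v
  simp [vmul, Prod.ext_iff, add_comm]

/-- An element commuting with the elementary subgroup is in it. -/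
theorem eq_mM_of_comm (h2 : (2 : F) ≠ 0) {g : G} (hg : g ∈ C)
    (h : ∀ v, g * Φ.mM v = Φ.mM v * g) : ∃ u, g = Φ.mM u := by
  have h1 : Φ.mM (0, 0, 1) = Φ.el 0 (uS 1) := rfl
  obtain ⟨u, t, l, rfl⟩ := Φ.normalizer_form hg ⟨0, 1, by rw [← h1, h, mul_inv_cancel_right]⟩
  have hv : ∀ v, (sU t * hT l) v = v := by
    intro v
    apply Φ.mM_inj
    have e := h v
    rw [mul_assoc (Φ.mM u * Φ.sS t), hH_mM, ← mul_assoc, mul_assoc (Φ.mM u), sS_mM, ← mul_assoc,
      ← mM_add, add_comm u, mM_add, mul_assoc, mul_assoc, ← mul_assoc (Φ.mM u), mul_left_inj] at e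
    exact e
  obtain ⟨rfl, rfl⟩ := sh_inj h2 (t := t) (t' := 0) (l := l) (l' := 1) (Equiv.ext fun v => by
    rw [hv, sU_zero, hT_one]; rfl)
  exact ⟨u, by rw [sS_zero, hH_one, mul_one, mul_one]⟩

end Frame

theorem exists_frame [Finite G] [Fintype F] {p n : ℕ} [Fact p.Prime] (hn : 1 ≤ n)
    (h2 : (2 : F) ≠ 0) (hF : Fintype.card F = p ^ n) [CharP F p] (x : Cfsg.PSp 2 F) (hx : orderOf x = p)
    (Px : Sylow p (Cfsg.PSp 2 F)) (hxP : x ∈ (Px : Subgroup (Cfsg.PSp 2 F)))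
    (hxc : ∀ y ∈ (Px : Subgroup (Cfsg.PSp 2 F)), y * x = x * y) (α : G)
    (e : ↥(Subgroup.centralizer ({α} : Set G)) ≃* ↥(Subgroup.centralizer ({x} : Set (Cfsg.PSp 2 F))))
    (P : Sylow p G) (hP : (P : Subgroup G) ≤ Subgroup.centralizer ({α} : Set G))
    (M : Subgroup G) (hMP : M ≤ P) (hMc : ∀ a ∈ M, ∀ b ∈ M, a * b = b * a)
    (hMcard : Nat.card ↥M = p ^ (3 * n)) :
    ∃ Φ : Frame F (Subgroup.centralizer ({α} : Set G)),
      (∀ g, g ∈ (P : Subgroup G) ↔ ∃ (u : V F) (t : F), g = Φ.mM u * Φ.sS t) ∧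
      (∀ g, g ∈ M ↔ ∃ u, g = Φ.mM u) ∧ ∃ u, α = Φ.mM u := by
  set C := Subgroup.centralizer ({α} : Set G)
  obtain ⟨f, hfi, hfm, hfc⟩ := exists_model h2 x hx Px hxP hxc
  have hfmem : ∀ v A, f v A ∈ Subgroup.centralizer ({x} : Set (Cfsg.PSp 2 F)) := fun v A =>
    (hfc _).mpr ⟨v, A, rfl⟩
  let Φ₀ : Frame F C :=
    { el := fun v A => ((e.symm ⟨f v A, hfmem v A⟩ : C) : G)
      inj := fun v v' A A' h => hfi v v' A A' (congrArg Subtype.val (e.symm.injective (Subtype.ext h)))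
      mul := fun v v' A A' => by
        rw [← Subgroup.coe_mul, ← map_mul]
        congr 2
        exact Subtype.ext (hfm v v' A A')
      mem_iff := fun g => by
        constructor
        · intro hg
          obtain ⟨v, A, hvA⟩ := (hfc _).mp (e ⟨g, hg⟩).2
          refine ⟨v, A, ?_⟩
          rw [show (⟨f v A, hfmem v A⟩ : Subgroup.centralizer ({x} : Set (Cfsg.PSp 2 F))) = e ⟨g, hg⟩ from
            Subtype.ext hvA, MulEquiv.symm_apply_apply]
        · rintro ⟨v, A, rfl⟩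
          exact (e.symm _).2 }
  have hpg : IsPGroup p (Φ₀.pSub.subgroupOf C) := by
    refine IsPGroup.of_card (n := n * 4) ?_
    rw [Nat.card_congr (Subgroup.subgroupOfEquivOfLe Φ₀.pSub_le).toEquiv, Φ₀.card_pSub, hF, ← pow_mul]
  obtain ⟨S, hS⟩ := hpg.exists_le_sylow
  have hSeq : (S : Subgroup C).map C.subtype = Φ₀.pSub := by
    have hle : Φ₀.pSub ≤ (S : Subgroup C).map C.subtype := fun g hg =>
      ⟨⟨g, Φ₀.pSub_le hg⟩, hS hg, rfl⟩
    refine le_antisymm ?_ hle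
    intro g hg
    obtain ⟨u, t, e'⟩ := Φ₀.sylow_eq ((S : Subgroup C).map C.subtype) (S.isPGroup'.map C.subtype)
      (Subgroup.map_subtype_le _) (fun u t => hle ⟨u, t, rfl⟩) g hg
    exact ⟨u, t, e'⟩
  obtain ⟨c, hc⟩ := MulAction.exists_smul_eq C S (P.subtype hP)
  let Φ := Φ₀.conj c.2
  have hPiff : ∀ g, g ∈ (P : Subgroup G) ↔ ∃ (u : V F) (t : F), g = Φ.mM u * Φ.sS t := by
    intro g
    have h1 : ∀ u t, Φ.mM u * Φ.sS t = (c : G) * (Φ₀.mM u * Φ₀.sS t) * (c : G)⁻¹ := fun u t => by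
      simp only [Frame.mM, Frame.sS, Φ, Frame.conj]
      group
    have h2 : ∀ z : C, z ∈ ((P.subtype hP : Sylow p C) : Subgroup C) ↔
        c⁻¹ * z * c ∈ (S : Subgroup C) := by
      intro z
      rw [← hc, Sylow.smul_def, Sylow.pointwise_smul_def, Subgroup.mem_pointwise_smul_iff_inv_smul_mem]
      simp [MulAut.smul_def, MulAut.inv_def]
    constructor
    · intro hg
      have := (h2 ⟨g, hP hg⟩).mp (by simpa [Subgroup.mem_subgroupOf] using hg)
      have hm : ((c⁻¹ * ⟨g, hP hg⟩ * c : C) : G) ∈ Φ₀.pSub := hSeq ▸ ⟨_, this, rfl⟩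
      obtain ⟨u, t, e'⟩ := hm
      refine ⟨u, t, ?_⟩
      rw [h1, ← e']
      simp [mul_assoc]
    · rintro ⟨u, t, rfl⟩
      rw [h1]
      have hm : Φ₀.mM u * Φ₀.sS t ∈ (S : Subgroup C).map C.subtype := hSeq.symm ▸ ⟨u, t, rfl⟩
      obtain ⟨z, hz, hze⟩ := hm
      have := (h2 (c * z * c⁻¹)).mpr (by rwa [show c⁻¹ * (c * z * c⁻¹) * c = z by group])
      have hm2 : ((c * z * c⁻¹ : C) : G) ∈ (P : Subgroup G) := by
        simpa [Subgroup.mem_subgroupOf] using this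
      simp only [Subgroup.coe_subtype] at hze
      rw [← hze]
      simpa using hm2
  have hq1 : 1 < Fintype.card F := Fintype.one_lt_card
  have hMsub : ∀ g ∈ M, ∃ u, g = Φ.mM u := by
    intro g hg
    obtain ⟨u, t, rfl⟩ := (hPiff g).mp (hMP hg)
    by_cases ht : t = 0
    · exact ⟨u, by rw [ht, Φ.sS_zero, mul_one]⟩
    exfalso
    have hcoord : ∀ m : M, ∃ (u' : V F) (t' : F), (m : G) = Φ.mM u' * Φ.sS t' := fun m =>
      (hPiff _).mp (hMP m.2)
    choose U T hUT using hcoord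
    have hinj : Function.Injective fun m : M => (T m, (U m).1) := by
      intro m m' hmm
      simp only [Prod.mk.injEq] at hmm
      have key : ∀ m : M, (U m).2.2 = T m * u.2.2 / t ∧
          2 * t * (U m).2.1 = 2 * T m * u.2.1 + T m * T m * u.2.2 - t * t * (U m).2.2 := by
        intro m
        have h := hMc _ hg _ m.2
        rw [hUT] at h
        have h' : Φ.mM (u + sU t (U m)) * Φ.sS (t + T m) = Φ.mM (U m + sU (T m) u) * Φ.sS (T m + t) := by
          rw [Φ.mM_add, Φ.mM_add, Φ.sS_add, Φ.sS_add]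
          calc Φ.mM u * Φ.mM (sU t (U m)) * (Φ.sS t * Φ.sS (T m))
              = Φ.mM u * (Φ.mM (sU t (U m)) * Φ.sS t) * Φ.sS (T m) := by group
            _ = (Φ.mM u * Φ.sS t) * (Φ.mM (U m) * Φ.sS (T m)) := by rw [← Φ.sS_mM]; group
            _ = (Φ.mM (U m) * Φ.sS (T m)) * (Φ.mM u * Φ.sS t) := h
            _ = Φ.mM (U m) * (Φ.sS (T m) * Φ.mM u) * Φ.sS t := by group
            _ = _ := by rw [Φ.sS_mM]; group
        have h'' := (Φ.pSub_inj h').1
        obtain ⟨a, b, c'⟩ := u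
        generalize U m = w at h'' ⊢
        obtain ⟨a', b', c''⟩ := w
        simp at h''
        obtain ⟨e1, e2, -⟩ := h''
        have e3 : t * c'' = T m * c' := by linear_combination e2
        refine ⟨?_, by linear_combination e1⟩
        field_simp
        linear_combination e3
      have h3 : (U m).2.2 = (U m').2.2 := by rw [(key m).1, (key m').1, hmm.1]
      have h4 : (U m).2.1 = (U m').2.1 := mul_left_cancel₀ (mul_ne_zero h2 ht) (by
        rw [(key m).2, (key m').2, hmm.1, h3])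
      refine Subtype.ext ?_
      rw [hUT, hUT, hmm.1, show U m = U m' from Prod.ext hmm.2 (Prod.ext h4 h3)]
    have hle := Nat.card_le_card_of_injective _ hinj
    rw [hMcard, Nat.card_prod, Nat.card_eq_fintype_card, hF, ← pow_add] at hle
    exact absurd ((Nat.pow_le_pow_iff_right (Fact.out : p.Prime).one_lt).mp hle) (by omega)
  have hMiff : ∀ g, g ∈ M ↔ ∃ u, g = Φ.mM u := by
    intro g
    refine ⟨hMsub g, ?_⟩
    rintro ⟨u, rfl⟩
    choose U hU using fun m : M => hMsub m m.2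
    have hinj : Function.Injective U := fun m m' h => Subtype.ext (by rw [hU, hU, h])
    have hb := (Nat.bijective_iff_injective_and_card U).mpr ⟨hinj, by
      rw [hMcard]
      show _ = Nat.card (F × F × F)
      rw [Nat.card_prod, Nat.card_prod, Nat.card_eq_fintype_card, hF]
      ring⟩
    obtain ⟨m, rfl⟩ := hb.2 u
    rw [← hU]
    exact m.2
  refine ⟨Φ, hPiff, hMiff, ?_⟩
  refine Φ.eq_mM_of_comm h2 (Subgroup.mem_centralizer_singleton_iff.mpr rfl) fun v => ?_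
  exact (Subgroup.mem_centralizer_singleton_iff.mp (Φ.mM_mem v)).symm

end CfsgLib.PSpFourNormM
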