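import Mathlib

/-!
The action of `GL₂` on binary quadratic forms, and its image `PGL₂ × C_{(q-1)/2}` for `q ≡ 3 mod 4`.
-/

set_option autoImplicit false
set_option linter.unusedSectionVars false

open Matrix

namespace CfsgLib.PSpFourNormM

variable {F : Type*} [Field F]

/-- The space of quadratic forms `(a, b, c)`. -/
abbrev V (F : Type*) : Type _ := F × F × F

/-- The action of a matrix on forms. -/
def sym (A : Matrix (Fin 2) (Fin 2) F) (v : V F) : V F :=
  (A 0 0 * A 0 0 * v.1 + 2 * (A 0 0 * A 0 1) * v.2.1 + A 0 1 * A 0 1 * v.2.2,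
   A 0 0 * A 1 0 * v.1 + (A 0 0 * A 1 1 + A 0 1 * A 1 0) * v.2.1 + A 0 1 * A 1 1 * v.2.2,
   A 1 0 * A 1 0 * v.1 + 2 * (A 1 0 * A 1 1) * v.2.1 + A 1 1 * A 1 1 * v.2.2)

theorem sym_mul (A B : Matrix (Fin 2) (Fin 2) F) (v : V F) : sym (A * B) v = sym A (sym B v) := by
  ext <;> simp [sym, Matrix.mul_apply, Fin.sum_univ_two] <;> ring

theorem sym_one (v : V F) : sym (1 : Matrix (Fin 2) (Fin 2) F) v = v := by
  ext <;> simp [sym]

theorem sym_add (A : Matrix (Fin 2) (Fin 2) F) (u v : V F) : sym A (u + v) = sym A u + sym A v := by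
  ext <;> simp [sym] <;> ring

/-- The action as a homomorphism. -/
def symHom (F : Type*) [Field F] : GL (Fin 2) F →* Equiv.Perm (V F) where
  toFun A :=
    { toFun := sym (A : Matrix (Fin 2) (Fin 2) F)
      invFun := sym ((A⁻¹ : GL (Fin 2) F) : Matrix (Fin 2) (Fin 2) F)
      left_inv := fun v => by rw [← sym_mul, ← Units.val_mul, inv_mul_cancel, Units.val_one, sym_one]
      right_inv := fun v => by rw [← sym_mul, ← Units.val_mul, mul_inv_cancel, Units.val_one, sym_one] }
  map_one' := Equiv.ext fun v => sym_one v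
  map_mul' A B := Equiv.ext fun v => sym_mul _ _ v

theorem symHom_apply (A : GL (Fin 2) F) (v : V F) :
    symHom F A v = sym (A : Matrix (Fin 2) (Fin 2) F) v := rfl

/-- The unipotent matrix. -/
def uM (t : F) : GL (Fin 2) F :=
  ⟨!![1, t; 0, 1], !![1, -t; 0, 1], by simp [Matrix.mul_fin_two, Matrix.one_fin_two],
    by simp [Matrix.mul_fin_two, Matrix.one_fin_two]⟩

/-- The diagonal matrix. -/
def dM (x y : Fˣ) : GL (Fin 2) F :=
  ⟨!![(x : F), 0; 0, (y : F)], !![((x⁻¹ : Fˣ) : F), 0; 0, ((y⁻¹ : Fˣ) : F)],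
    by simp [Matrix.mul_fin_two, Matrix.one_fin_two], by simp [Matrix.mul_fin_two, Matrix.one_fin_two]⟩

/-- The swap. -/
def wM : GL (Fin 2) F :=
  ⟨!![0, 1; -1, 0], !![0, -1; 1, 0], by simp [Matrix.mul_fin_two, Matrix.one_fin_two],
    by simp [Matrix.mul_fin_two, Matrix.one_fin_two]⟩

/-- The unipotent map. -/
def sU (t : F) : Equiv.Perm (V F) := symHom F (uM t)

/-- The torus map. -/
def hT (l : Fˣ) : Equiv.Perm (V F) := symHom F (dM 1 l)

@[simp] theorem sU_apply (t a b c : F) :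
    sU t (a, b, c) = (a + 2 * t * b + t * t * c, b + t * c, c) := by
  simp [sU, symHom_apply, sym, uM]

@[simp] theorem hT_apply (l : Fˣ) (a b c : F) :
    hT l (a, b, c) = (a, (l : F) * b, (l : F) * l * c) := by
  simp [hT, symHom_apply, sym, dM]

@[simp] theorem dM_apply (x y : Fˣ) (a b c : F) :
    symHom F (dM x y) (a, b, c) = ((x : F) * x * a, (x : F) * y * b, (y : F) * y * c) := by
  simp [symHom_apply, sym, dM]

@[simp] theorem wM_apply (a b c : F) : symHom F wM (a, b, c) = (c, -b, a) := by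
  simp [symHom_apply, sym, wM]

theorem sU_add (s t : F) : sU (s + t) = sU s * sU t := by
  rw [sU, sU, sU, ← map_mul]
  congr 1
  ext i j
  fin_cases i <;> fin_cases j <;> simp [uM, Matrix.mul_apply, Fin.sum_univ_two, add_comm]

theorem sU_zero : sU (0 : F) = 1 := Equiv.ext fun v => by
  obtain ⟨a, b, c⟩ := v
  simp

theorem sU_inv (t : F) : (sU t)⁻¹ = sU (-t) :=
  inv_eq_of_mul_eq_one_right (by rw [← sU_add, add_neg_cancel, sU_zero])

theorem sU_pow (t : F) (k : ℕ) : sU t ^ k = sU ((k : F) * t) := by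
  induction k with
  | zero => simp [sU_zero]
  | succ k ih => rw [pow_succ, ih, ← sU_add]; congr 1; push_cast; ring

theorem hT_mul (l m : Fˣ) : hT (l * m) = hT l * hT m := Equiv.ext fun v => by
  obtain ⟨a, b, c⟩ := v
  simp only [Equiv.Perm.mul_apply, hT_apply, Units.val_mul]
  refine Prod.ext rfl (Prod.ext ?_ ?_) <;> simp <;> ring

theorem hT_one : hT (1 : Fˣ) = 1 := Equiv.ext fun v => by
  obtain ⟨a, b, c⟩ := v
  simp

theorem hT_inv (l : Fˣ) : (hT l)⁻¹ = hT l⁻¹ :=
  inv_eq_of_mul_eq_one_right (by rw [← hT_mul, mul_inv_cancel, hT_one])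

theorem hT_sU (l : Fˣ) (t : F) : hT l * sU t = sU (t * ((l⁻¹ : Fˣ) : F)) * hT l :=
  Equiv.ext fun v => by
    obtain ⟨a, b, c⟩ := v
    simp only [Equiv.Perm.mul_apply, hT_apply, sU_apply]
    refine Prod.ext ?_ (Prod.ext ?_ rfl) <;> simp <;> field_simp

theorem sh_apply (t : F) (l : Fˣ) (a b c : F) :
    (sU t * hT l) (a, b, c) =
      (a + 2 * t * ((l : F) * b) + t * t * ((l : F) * l * c), (l : F) * b + t * ((l : F) * l * c),
        (l : F) * l * c) := by
  simp [Equiv.Perm.mul_apply]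

theorem sh_inj (h2 : (2 : F) ≠ 0) {t t' : F} {l l' : Fˣ} (h : sU t * hT l = sU t' * hT l') :
    t = t' ∧ l = l' := by
  have h1 := congrFun (congrArg DFunLike.coe h) ((0, 1, 0) : V F)
  simp only [sh_apply, Prod.mk.injEq, mul_one, mul_zero, add_zero, zero_add] at h1
  obtain ⟨e1, e2, -⟩ := h1
  have hl : l = l' := Units.ext e2
  subst hl
  refine ⟨mul_left_cancel₀ h2 (mul_right_cancel₀ l.ne_zero ?_), rfl⟩
  exact e1

theorem sh_mul (t t' : F) (l l' : Fˣ) :
    (sU t * hT l) * (sU t' * hT l') = sU (t + t' * ((l⁻¹ : Fˣ) : F)) * hT (l * l') := by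
  rw [sU_add, hT_mul, mul_assoc, ← mul_assoc (hT l), hT_sU]
  simp only [mul_assoc]

theorem sh_sq_eq_one (h2 : (2 : F) ≠ 0) {t : F} {l : Fˣ}
    (h : (sU t * hT l) * (sU t * hT l) = 1) : (l = 1 ∧ t = 0) ∨ l = -1 := by
  rw [sh_mul] at h
  obtain ⟨e1, e2⟩ := sh_inj h2 (h.trans (show (1 : Equiv.Perm (V F)) = sU 0 * hT 1 by
    rw [sU_zero, hT_one, one_mul]))
  rcases mul_self_eq_one_iff.mp (show (l : F) * l = 1 by rw [← Units.val_mul, e2, Units.val_one])
    with e | e
  · left
    have hl : l = 1 := Units.ext e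
    refine ⟨hl, ?_⟩
    rw [hl, inv_one, Units.val_one, mul_one] at e1
    exact mul_left_cancel₀ h2 (by linear_combination e1)
  · exact Or.inr (Units.ext (by simpa using e))

theorem gl_eq_upper {A : GL (Fin 2) F} (h : (A : Matrix (Fin 2) (Fin 2) F) 1 0 = 0) :
    ∃ x y : Fˣ, ∃ t : F, A = dM x y * uM t := by
  set M : Matrix (Fin 2) (Fin 2) F := (A : Matrix (Fin 2) (Fin 2) F) with hM
  have hd : M.det ≠ 0 := (Matrix.GeneralLinearGroup.det A).ne_zero
  rw [Matrix.det_fin_two, h, mul_zero, sub_zero] at hd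
  refine ⟨Units.mk0 _ (left_ne_zero_of_mul hd), Units.mk0 _ (right_ne_zero_of_mul hd),
    M 0 1 / M 0 0, Units.ext ?_⟩
  ext i j
  have h00 := left_ne_zero_of_mul hd
  fin_cases i <;> fin_cases j <;>
    simp [dM, uM, ← hM, h, Matrix.mul_apply, Fin.sum_univ_two] <;> field_simp

theorem gl_eq_bruhat {A : GL (Fin 2) F} (h : (A : Matrix (Fin 2) (Fin 2) F) 1 0 ≠ 0) :
    ∃ t : F, ((wM⁻¹ * uM t * A : GL (Fin 2) F) : Matrix (Fin 2) (Fin 2) F) 1 0 = 0 := by
  refine ⟨-((A : Matrix (Fin 2) (Fin 2) F) 0 0 / (A : Matrix (Fin 2) (Fin 2) F) 1 0), ?_⟩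
  have : ((wM⁻¹ : GL (Fin 2) F) : Matrix (Fin 2) (Fin 2) F) = !![0, -1; 1, 0] := rfl
  simp [Units.val_mul, this, uM, Matrix.mul_apply, Fin.sum_univ_two]
  field_simp
  ring

/-- A subgroup contains the image of `GL₂` if it contains the images of generators. -/
theorem range_symHom_le (Nb : Subgroup (Equiv.Perm (V F))) (hs : ∀ t : F, sU t ∈ Nb)
    (hd : ∀ x y : Fˣ, symHom F (dM x y) ∈ Nb) (hw : symHom F wM ∈ Nb) :
    (symHom F).range ≤ Nb := by
  rintro _ ⟨A, rfl⟩
  have key : ∀ B : GL (Fin 2) F, (B : Matrix (Fin 2) (Fin 2) F) 1 0 = 0 → symHom F B ∈ Nb := by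
    intro B hB
    obtain ⟨x, y, t, rfl⟩ := gl_eq_upper hB
    rw [map_mul]
    exact mul_mem (hd x y) (hs t)
  by_cases h : (A : Matrix (Fin 2) (Fin 2) F) 1 0 = 0
  · exact key A h
  · obtain ⟨t, ht⟩ := gl_eq_bruhat h
    have := mul_mem (mul_mem (inv_mem (hs t)) hw) (key _ ht)
    rwa [sU, ← map_inv, ← map_mul, ← map_mul,
      show (uM t)⁻¹ * wM * (wM⁻¹ * uM t * A) = A by group] at this

/-! ### The image -/

theorem neg_one_ne_sq [Fintype F] (hq : Fintype.card F % 4 = 3) (x : F) : x * x ≠ -1 := fun h =>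
  (FiniteField.isSquare_neg_one_iff.mp ⟨x, h.symm⟩) hq

theorem two_ne [Fintype F] (hq : Fintype.card F % 4 = 3) : (2 : F) ≠ 0 := by
  intro h
  apply neg_one_ne_sq hq 1
  linear_combination h

theorem sq_or_neg_sq [Fintype F] (hq : Fintype.card F % 4 = 3) (d : F) :
    ∃ x : F, x * x = d ∨ x * x = -d := by
  classical
  by_cases hd : IsSquare d
  · obtain ⟨x, hx⟩ := hd
    exact ⟨x, Or.inl hx.symm⟩
  have hn : ¬ IsSquare (-1 : F) := fun ⟨x, hx⟩ => neg_one_ne_sq hq x hx.symm
  obtain ⟨x, hx⟩ : IsSquare (-d) := by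
    have hd0 : d ≠ 0 := fun e => hd ⟨0, by simp [e]⟩
    rw [← quadraticChar_one_iff_isSquare (neg_ne_zero.mpr hd0), show -d = -1 * d by ring, map_mul,
      quadraticChar_neg_one_iff_not_isSquare.mpr hn, quadraticChar_neg_one_iff_not_isSquare.mpr hd]
    norm_num
  exact ⟨x, Or.inr hx.symm⟩

theorem symHom_eq_one_iff [Fintype F] (hq : Fintype.card F % 4 = 3) (A : GL (Fin 2) F) :
    symHom F A = 1 ↔
      A = 1 ∨ A = Matrix.GeneralLinearGroup.scalar (Fin 2) (-1 : Fˣ) := by
  constructor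
  · intro h
    have g := fun v : V F => congrFun (congrArg DFunLike.coe h) v
    have g1 := g (1, 0, 0)
    have g3 := g (0, 0, 1)
    have g2 := g (0, 1, 0)
    simp [symHom_apply, sym] at g1 g2 g3
    obtain ⟨ha, -, hc⟩ := g1
    obtain ⟨hb, -, hd⟩ := g3
    obtain ⟨-, he, -⟩ := g2
    rw [hb, hc, mul_zero, add_zero] at he
    rcases mul_self_eq_one_iff.mp ha with e | e
    · left
      rw [e, one_mul] at he
      refine Units.ext ?_
      ext i j
      fin_cases i <;> fin_cases j <;> simp [e, hb, hc, he]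
    · right
      have hd' : (A : Matrix (Fin 2) (Fin 2) F) 1 1 = -1 := by rw [e] at he; linear_combination -he
      refine Units.ext ?_
      ext i j
      fin_cases i <;> fin_cases j <;> simp [e, hb, hc, hd', Matrix.GeneralLinearGroup.scalar]
  · rintro (rfl | rfl)
    · exact map_one _
    · refine Equiv.ext fun v => ?_
      obtain ⟨a, b, c⟩ := v
      simp [symHom_apply, sym, Matrix.GeneralLinearGroup.scalar]

/-- The subgroup of squares. -/
def sqs (F : Type*) [Field F] : Subgroup Fˣ := (powMonoidHom 2 : Fˣ →* Fˣ).range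

theorem card_sqs [Fintype F] (hq : Fintype.card F % 4 = 3) :
    Nat.card (sqs F) = (Fintype.card F - 1) / 2 := by
  classical
  have hk : Nat.card (powMonoidHom 2 : Fˣ →* Fˣ).ker = 2 := by
    rw [Nat.card_eq_two_iff]
    refine ⟨1, ⟨-1, by simp⟩, fun e => ?_, ?_⟩
    · have : (1 : F) = -1 := by simpa using congrArg (fun u => ((u.1 : Fˣ) : F)) e
      exact two_ne hq (by linear_combination this)
    · ext ⟨u, hu⟩
      simp only [MonoidHom.mem_ker, powMonoidHom_apply, sq] at hu
      simp only [Set.mem_insert_iff, Set.mem_singleton_iff, Set.mem_univ, iff_true]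
      rcases mul_self_eq_one_iff.mp (show (u : F) * u = 1 by rw [← Units.val_mul, hu, Units.val_one])
        with e | e
      · exact Or.inl (Subtype.ext (Units.ext e))
      · exact Or.inr (Subtype.ext (Units.ext (by simpa using e)))
  have h1 := Subgroup.card_eq_card_quotient_mul_card_subgroup (powMonoidHom 2 : Fˣ →* Fˣ).ker
  rw [hk, Nat.card_congr (QuotientGroup.quotientKerEquivRange _).toEquiv, Nat.card_units,
    Nat.card_eq_fintype_card] at h1
  rw [sqs]
  omega

/-- The image is `PGL₂ × C_{(q-1)/2}`. -/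
theorem range_iso [Fintype F] (hq : Fintype.card F % 4 = 3) :
    Nonempty ((symHom F).range ≃* Matrix.ProjGenLinGroup (Fin 2) F ×
      Multiplicative (ZMod ((Fintype.card F - 1) / 2))) := by
  classical
  let dd : GL (Fin 2) F →* sqs F :=
    ((powMonoidHom 2 : Fˣ →* Fˣ).comp Matrix.GeneralLinearGroup.det).codRestrict (sqs F)
      fun A => ⟨_, rfl⟩
  let θ : GL (Fin 2) F →* Matrix.ProjGenLinGroup (Fin 2) F × sqs F :=
    Matrix.ProjGenLinGroup.mk.prod dd
  have hds : ∀ u : Fˣ, Matrix.GeneralLinearGroup.det (Matrix.GeneralLinearGroup.scalar (Fin 2) u) = u * u := by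
    intro u
    ext
    simp [Matrix.GeneralLinearGroup.scalar, pow_two]
  have hker : θ.ker = (symHom F).ker := by
    ext A
    rw [MonoidHom.mem_ker, MonoidHom.mem_ker, symHom_eq_one_iff hq]
    simp only [θ, MonoidHom.prod_apply, Prod.mk_eq_one]
    constructor
    · rintro ⟨h1, h2⟩
      rw [Matrix.ProjGenLinGroup.mk_eq_one, Matrix.GeneralLinearGroup.center_eq_range_scalar] at h1
      obtain ⟨u, rfl⟩ := h1
      have h2' : (u * u) ^ 2 = 1 := by
        rw [← hds]; exact congrArg Subtype.val h2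
      have h3 : ((u : F) * u) * ((u : F) * u) = 1 := by
        have := congrArg Units.val h2'
        simpa [pow_two] using this
      rcases mul_self_eq_one_iff.mp h3 with e | e
      · rcases mul_self_eq_one_iff.mp e with e' | e'
        · left; rw [show u = 1 from Units.ext e', map_one]
        · right; rw [show u = -1 from Units.ext (by simpa using e')]
      · exact absurd e (neg_one_ne_sq hq _)
    · rintro (rfl | rfl)
      · exact ⟨map_one _, map_one _⟩
      · refine ⟨Matrix.ProjGenLinGroup.mk_scalar _, Subtype.ext ?_⟩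
        show (Matrix.GeneralLinearGroup.det _) ^ 2 = 1
        rw [hds]; simp
  have hsurj : Function.Surjective θ := by
    rintro ⟨g, ⟨_, s, rfl⟩⟩
    obtain ⟨A, rfl⟩ := Matrix.ProjGenLinGroup.mk_surjective g
    set d := Matrix.GeneralLinearGroup.det A
    obtain ⟨x, hx⟩ := sq_or_neg_sq hq ((s : F) / (d : F))
    have hx0 : x ≠ 0 := by
      rintro rfl
      rcases hx with e | e <;>
        simp [eq_comm (a := (0 : F)), Units.ne_zero] at e
    refine ⟨A * Matrix.GeneralLinearGroup.scalar (Fin 2) (Units.mk0 x hx0), Prod.ext ?_ ?_⟩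
    · simp [θ, map_mul, Matrix.ProjGenLinGroup.mk_scalar]
    · refine Subtype.ext ?_
      show (Matrix.GeneralLinearGroup.det (A * _)) ^ 2 = s ^ 2
      rw [map_mul, hds]
      refine Units.ext ?_
      push_cast
      rw [Units.val_mk0]
      have hd0 : (d : F) ≠ 0 := d.ne_zero
      rcases hx with e | e <;> rw [e] <;> field_simp <;> ring
  have e1 : (symHom F).range ≃* Matrix.ProjGenLinGroup (Fin 2) F × sqs F :=
    (QuotientGroup.quotientKerEquivRange (symHom F)).symm.trans
      ((QuotientGroup.quotientMulEquivOfEq hker.symm).trans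
        (QuotientGroup.quotientKerEquivOfSurjective θ hsurj))
  haveI : NeZero ((Fintype.card F - 1) / 2) := ⟨by
    have := Fintype.one_lt_card (α := F)
    omega⟩
  haveI : IsCyclic (sqs F) := Subgroup.isCyclic _
  exact ⟨e1.trans (MulEquiv.prodCongr (MulEquiv.refl _) (mulEquivOfCyclicCardEq (by
    rw [card_sqs hq, Nat.card_congr Multiplicative.toAdd, Nat.card_zmod])))⟩

end CfsgLib.PSpFourNormM
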