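import Cfsg.Agent.PSpFourNormM.PSpModel
import Cfsg.Agent.PSpFourNormM.Sym

/-!
The centraliser in coordinates inside an abstract group: its elementary subgroup of order `q³`.
-/

set_option autoImplicit false
set_option linter.unusedSectionVars false
set_option linter.style.haveILetI false

open scoped Classical

namespace CfsgLib.PSpFourNormM

variable {F : Type*} [Field F] {G : Type*} [Group G]

/-- Coordinates on a subgroup. -/
structure Frame (F : Type*) [Field F] {G : Type*} [Group G] (C : Subgroup G) where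
  /-- The coordinate map. -/
  el : F × F × F → Matrix.SpecialLinearGroup (Fin 2) F → G
  inj : ∀ v v' A A', el v A = el v' A' → v = v' ∧ A = A'
  mul : ∀ v v' A A', el v A * el v' A' = el (vmul v A v') (A * A')
  mem_iff : ∀ g, g ∈ C ↔ ∃ v A, el v A = g

/-- Unipotent element of `SL₂`. -/
def uS (t : F) : Matrix.SpecialLinearGroup (Fin 2) F := ⟨!![1, t; 0, 1], by simp⟩

/-- Diagonal element of `SL₂`. -/
def dS (l : Fˣ) : Matrix.SpecialLinearGroup (Fin 2) F :=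
  ⟨!![(l : F), 0; 0, ((l⁻¹ : Fˣ) : F)], by simp⟩

@[simp] theorem uS_val (t : F) : (uS t).1 = !![1, t; 0, 1] := rfl

@[simp] theorem dS_val (l : Fˣ) : (dS l).1 = !![(l : F), 0; 0, ((l⁻¹ : Fˣ) : F)] := rfl

theorem uS_zero : uS (0 : F) = 1 := by
  refine Subtype.ext ?_
  simp [Matrix.one_fin_two]

theorem dS_one : dS (1 : Fˣ) = 1 := by
  refine Subtype.ext ?_
  simp [Matrix.one_fin_two]

theorem uS_add (s t : F) : uS (s + t) = uS s * uS t := by
  refine Subtype.ext ?_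
  simp [Matrix.SpecialLinearGroup.coe_mul, Matrix.mul_fin_two, add_comm]

theorem dS_mul (l m : Fˣ) : dS (l * m) = dS l * dS m := by
  refine Subtype.ext ?_
  simp [Matrix.SpecialLinearGroup.coe_mul, Matrix.mul_fin_two, mul_comm]

theorem dS_uS (l : Fˣ) (t : F) : dS l * uS t = uS ((l : F) * l * t) * dS l := by
  refine Subtype.ext ?_
  simp [Matrix.SpecialLinearGroup.coe_mul, Matrix.mul_fin_two]
  field_simp

theorem sl_upper {A : Matrix.SpecialLinearGroup (Fin 2) F} (h : A.1 1 0 = 0) :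
    ∃ (l : Fˣ) (t : F), A = uS t * dS l := by
  have hd := A.2
  rw [Matrix.det_fin_two, h, mul_zero, sub_zero] at hd
  refine ⟨Units.mk0 (A.1 0 0) (left_ne_zero_of_mul (hd ▸ one_ne_zero)), A.1 0 1 * A.1 0 0, Subtype.ext ?_⟩
  ext i j
  have h00 : A.1 0 0 ≠ 0 := left_ne_zero_of_mul (hd ▸ one_ne_zero)
  fin_cases i <;> fin_cases j <;>
    simp [h, Matrix.SpecialLinearGroup.coe_mul, Matrix.mul_apply, Fin.sum_univ_two, h00]
  field_simp
  linear_combination hd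

namespace Frame

variable {C : Subgroup G} (Φ : Frame F C)

theorem el_mem (v : F × F × F) (A : Matrix.SpecialLinearGroup (Fin 2) F) : Φ.el v A ∈ C :=
  (Φ.mem_iff _).mpr ⟨v, A, rfl⟩

theorem el_one : Φ.el 0 1 = 1 := by
  have h := Φ.mul 0 0 1 1
  rw [show vmul (0 : F × F × F) 1 0 = 0 by simp [vmul, Prod.ext_iff], one_mul] at h
  exact mul_eq_left.mp h

/-- Conjugate coordinates. -/
def conj {g : G} (hg : g ∈ C) : Frame F C where
  el v A := g * Φ.el v A * g⁻¹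
  inj v v' A A' h := Φ.inj _ _ _ _ (mul_left_cancel (mul_right_cancel h))
  mul v v' A A' := by rw [← Φ.mul]; group
  mem_iff x := by
    constructor
    · intro hx
      obtain ⟨v, A, e⟩ := (Φ.mem_iff _).mp (C.mul_mem (C.mul_mem (C.inv_mem hg) hx) hg)
      exact ⟨v, A, by rw [e]; group⟩
    · rintro ⟨v, A, rfl⟩
      exact C.mul_mem (C.mul_mem hg (Φ.el_mem v A)) (C.inv_mem hg)

/-- The elementary subgroup in coordinates. -/
def mM (v : V F) : G := Φ.el (v.2.1, 0, v.1) (uS v.2.2)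

/-- The complement of the elementary subgroup in the Sylow subgroup. -/
def sS (t : F) : G := Φ.el (0, -t, 0) 1

/-- The torus. -/
def hH (l : Fˣ) : G := Φ.el 0 (dS l)

theorem mM_add (u v : V F) : Φ.mM (u + v) = Φ.mM u * Φ.mM v := by
  rw [mM, mM, mM, Φ.mul, ← uS_add]
  congr 1
  simp [vmul]

theorem mM_zero : Φ.mM 0 = 1 := by
  rw [mM, ← Φ.el_one]
  congr 1
  exact uS_zero

theorem mM_inj {u v : V F} (h : Φ.mM u = Φ.mM v) : u = v := by
  obtain ⟨h1, h2⟩ := Φ.inj _ _ _ _ h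
  obtain ⟨a, b, c⟩ := u
  obtain ⟨a', b', c'⟩ := v
  simp only [Prod.mk.injEq] at h1
  have h3 : c = c' := by
    have := congrArg (fun A : Matrix.SpecialLinearGroup (Fin 2) F => A.1 0 1) h2
    simpa using this
  exact Prod.ext h1.2.2 (Prod.ext h1.1 h3)

theorem mM_mem (v : V F) : Φ.mM v ∈ C := Φ.el_mem _ _

theorem sS_add (s t : F) : Φ.sS (s + t) = Φ.sS s * Φ.sS t := by
  rw [sS, sS, sS, Φ.mul, one_mul]
  congr 1
  simp [vmul]
  ring

theorem sS_zero : Φ.sS 0 = 1 := by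
  rw [sS, neg_zero, ← Φ.el_one]
  rfl

theorem hH_one : Φ.hH 1 = 1 := by rw [hH, dS_one, Φ.el_one]

theorem hH_mul (l m : Fˣ) : Φ.hH (l * m) = Φ.hH l * Φ.hH m := by
  rw [hH, hH, hH, Φ.mul, dS_mul]
  congr 1
  simp [vmul, Prod.ext_iff]

theorem sS_mM (t : F) (v : V F) : Φ.sS t * Φ.mM v = Φ.mM (sU t v) * Φ.sS t := by
  obtain ⟨a, b, c⟩ := v
  rw [sS, mM, mM, Φ.mul, Φ.mul, one_mul, mul_one]
  simp only [sU_apply]
  congr 1
  simp [vmul, Prod.ext_iff]
  constructor <;> ring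

theorem hH_mM (l : Fˣ) (v : V F) : Φ.hH l * Φ.mM v = Φ.mM (hT l v) * Φ.hH l := by
  obtain ⟨a, b, c⟩ := v
  rw [hH, mM, mM, Φ.mul, Φ.mul]
  simp only [hT_apply]
  rw [← dS_uS]
  congr 1
  simp [vmul, Prod.ext_iff]

theorem hH_sS (l : Fˣ) (t : F) : Φ.hH l * Φ.sS t = Φ.sS (t * ((l⁻¹ : Fˣ) : F)) * Φ.hH l := by
  rw [hH, sS, sS, Φ.mul, Φ.mul, mul_one, one_mul]
  congr 1
  simp [vmul, Prod.ext_iff]
  ring

theorem mM_sS_hH (v : V F) (t : F) (l : Fˣ) :
    Φ.mM v * Φ.sS t * Φ.hH l =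
      Φ.el (v.2.1 - v.2.2 * t, -t, v.1 - v.2.1 * t) (uS v.2.2 * dS l) := by
  rw [mM, sS, hH, Φ.mul, Φ.mul, mul_one]
  congr 1
  simp [vmul, Prod.ext_iff]
  constructor <;> ring

theorem upper_decomp (v : F × F × F) {A : Matrix.SpecialLinearGroup (Fin 2) F} (h : A.1 1 0 = 0) :
    ∃ (u : V F) (t : F) (l : Fˣ), Φ.el v A = Φ.mM u * Φ.sS t * Φ.hH l := by
  obtain ⟨l, x, rfl⟩ := sl_upper h
  obtain ⟨p, q, c⟩ := v
  refine ⟨(c + (p - x * q) * (-q), p - x * q, x), -q, l, ?_⟩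
  rw [mM_sS_hH]
  congr 1
  simp [Prod.ext_iff]

theorem mM_sS_hH_inj {u u' : V F} {t t' : F} {l l' : Fˣ}
    (h : Φ.mM u * Φ.sS t * Φ.hH l = Φ.mM u' * Φ.sS t' * Φ.hH l') : u = u' ∧ t = t' ∧ l = l' := by
  rw [mM_sS_hH, mM_sS_hH] at h
  obtain ⟨h1, h2⟩ := Φ.inj _ _ _ _ h
  simp only [Prod.mk.injEq, neg_inj] at h1
  obtain ⟨e1, rfl, e3⟩ := h1
  have g := fun i j => congrArg (fun A : Matrix.SpecialLinearGroup (Fin 2) F => A.1 i j) h2
  have hl : l = l' := Units.ext (by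
    simpa [Matrix.SpecialLinearGroup.coe_mul, Matrix.mul_apply, Fin.sum_univ_two] using g 0 0)
  subst hl
  have hx : u.2.2 = u'.2.2 := by
    have := g 0 1
    simp [Matrix.SpecialLinearGroup.coe_mul, Matrix.mul_apply, Fin.sum_univ_two] at this
    exact this
  obtain ⟨a, b, c⟩ := u
  obtain ⟨a', b', c'⟩ := u'
  simp only at e1 e3 hx
  subst hx
  have hb : b = b' := by linear_combination e1
  subst hb
  exact ⟨by rw [show a = a' by linear_combination e3], rfl, rfl⟩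

/-- An element of the subgroup normalising the coordinates is upper triangular. -/
theorem normalizer_form {g : G} (hg : g ∈ C)
    (h : ∃ (v : F × F × F) (x : F), g * Φ.el 0 (uS 1) * g⁻¹ = Φ.el v (uS x)) :
    ∃ (u : V F) (t : F) (l : Fˣ), g = Φ.mM u * Φ.sS t * Φ.hH l := by
  obtain ⟨w, A, rfl⟩ := (Φ.mem_iff g).mp hg
  obtain ⟨v, x, e⟩ := h
  rw [mul_inv_eq_iff_eq_mul, Φ.mul, Φ.mul] at e
  have e2 := (Φ.inj _ _ _ _ e).2
  refine Φ.upper_decomp w ?_
  have g11 := congrArg (fun B : Matrix.SpecialLinearGroup (Fin 2) F => B.1 1 1) e2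
  simp [Matrix.SpecialLinearGroup.coe_mul, Matrix.mul_apply, Fin.sum_univ_two] at g11
  exact g11

variable [Finite F]

theorem sylow_eq {p : ℕ} [Fact p.Prime] [CharP F p] [Finite G] (Q : Subgroup G) (hQ : IsPGroup p Q)
    (hQC : Q ≤ C) (hle : ∀ (u : V F) (t : F), Φ.mM u * Φ.sS t ∈ Q) :
    ∀ g ∈ Q, ∃ (u : V F) (t : F), g = Φ.mM u * Φ.sS t := by
  let S : Subgroup G :=
    { carrier := {g | ∃ (u : V F) (t : F), g = Φ.mM u * Φ.sS t}
      one_mem' := ⟨0, 0, by rw [mM_zero, sS_zero, one_mul]⟩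
      mul_mem' := by
        rintro _ _ ⟨u, t, rfl⟩ ⟨u', t', rfl⟩
        refine ⟨u + sU t u', t + t', ?_⟩
        rw [mM_add, sS_add, mul_assoc, ← mul_assoc (Φ.sS t), sS_mM]
        simp only [mul_assoc]
      inv_mem' := by
        rintro _ ⟨u, t, rfl⟩
        refine ⟨sU (-t) (-u), -t, ?_⟩
        rw [← Φ.sS_mM, inv_eq_iff_mul_eq_one]
        calc Φ.mM u * Φ.sS t * (Φ.sS (-t) * Φ.mM (-u))
            = Φ.mM u * (Φ.sS t * Φ.sS (-t)) * Φ.mM (-u) := by group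
          _ = 1 := by rw [← sS_add, add_neg_cancel, sS_zero, mul_one, ← mM_add, add_neg_cancel, mM_zero] }
  have hSQ : S ≤ Q := by
    rintro _ ⟨u, t, rfl⟩
    exact hle u t
  haveI : Group.IsNilpotent Q := hQ.isNilpotent
  intro g hg
  by_contra hne
  have htop : S.subgroupOf Q < ⊤ := lt_top_iff_ne_top.mpr fun e =>
    hne (show (⟨g, hg⟩ : Q) ∈ S.subgroupOf Q from e ▸ Subgroup.mem_top _)
  obtain ⟨⟨x, hxQ⟩, hxN, hxS⟩ := SetLike.exists_of_lt (normalizerCondition_of_isNilpotent _ htop)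
  apply hxS
  show x ∈ S
  have hu1 : Φ.el 0 (uS 1) ∈ S := ⟨(0, 0, 1), 0, by
    rw [sS_zero, mul_one, mM]; rfl⟩
  obtain ⟨u', t', hut⟩ := (Subgroup.mem_normalizer_iff.mp hxN ⟨_, hSQ hu1⟩).mp hu1
  obtain ⟨u, t, l, hx⟩ := Φ.normalizer_form (hQC hxQ) ⟨(u'.2.1 - u'.2.2 * t', -t', u'.1 - u'.2.1 * t'),
    u'.2.2, by
      have h := Φ.mM_sS_hH u' t' 1
      rw [hH_one, mul_one, dS_one, mul_one] at h
      rw [← h, ← hut]; rfl⟩
  refine ⟨u, t, ?_⟩
  have hl : l = 1 := by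
    have hm : Φ.hH l ∈ Q := by
      have := Q.mul_mem (Q.inv_mem (hle u t)) hxQ
      rwa [hx, inv_mul_cancel_left] at this
    obtain ⟨k, hk⟩ := hQ ⟨_, hm⟩
    have hk' : Φ.hH l ^ p ^ k = 1 := congrArg Subtype.val hk
    have hp : ∀ j : ℕ, Φ.hH l ^ j = Φ.hH (l ^ j) := by
      intro j
      induction j with
      | zero => simp [hH_one]
      | succ j ih => rw [pow_succ, ih, ← hH_mul, pow_succ]
    rw [hp, ← Φ.hH_one] at hk'
    have h1 := (Φ.inj _ _ _ _ hk').2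
    have h2 : ((l : F) ^ p ^ k) = 1 := by
      have := congrArg (fun B : Matrix.SpecialLinearGroup (Fin 2) F => B.1 0 0) h1
      simpa using this
    refine Units.ext (sub_eq_zero.mp (eq_zero_of_pow_eq_zero (n := p ^ k) ?_))
    rw [Units.val_one, sub_pow_char_pow, one_pow, h2, sub_self]
  rw [hx, hl, hH_one, mul_one]

end Frame

end CfsgLib.PSpFourNormM
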