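import Cfsg.Agent.PSpFourNormM.Points

/-!
Counting the points of the orbit.
-/

set_option autoImplicit false
set_option linter.unusedSectionVars false
set_option linter.style.haveILetI false

open scoped Classical

namespace CfsgLib.PSpFourNormM

/-- A free action divides. -/
theorem card_dvd_of_free {K α : Type*} [Group K] [Finite K] [MulAction K α] [Finite α]
    (h : ∀ (g : K) (a : α), g • a = a → g = 1) : Nat.card K ∣ Nat.card α := by
  haveI := Fintype.ofFinite (Quotient (MulAction.orbitRel K α))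
  rw [Nat.card_congr (MulAction.selfEquivSigmaOrbitsQuotientStabilizer K α), Nat.card_sigma]
  refine Finset.dvd_sum fun ω _ => ?_
  rw [show MulAction.stabilizer K ω.out = ⊥ from (Subgroup.eq_bot_iff_forall _).mpr fun g hg =>
    h g _ hg, Nat.card_congr QuotientGroup.quotientBot.toEquiv]

variable {F : Type*} [Field F] [Fintype F]

/-- The orbit. -/
abbrev Pts (Nb : Subgroup (Equiv.Perm (V F))) : Type _ := {P : Set (V F) // IsPt Nb P}

instance instActPts (Nb : Subgroup (Equiv.Perm (V F))) : MulAction Nb (Pts Nb) where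
  smul g P := ⟨(g : Equiv.Perm (V F)) '' P.1, by
    obtain ⟨x, hx, e⟩ := P.2
    exact ⟨g.1 * x, mul_mem g.2 hx, by rw [e, image_mul]⟩⟩
  one_smul P := Subtype.ext (by
    show ((1 : Nb) : Equiv.Perm (V F)) '' P.1 = P.1
    simp)
  mul_smul g h P := Subtype.ext (image_mul g.1 h.1 P.1)

theorem smul_val {Nb : Subgroup (Equiv.Perm (V F))} (g : Nb) (P : Pts Nb) :
    (g • P).1 = (g : Equiv.Perm (V F)) '' P.1 := rfl

/-- Points in the fixed plane of the involution. -/
def InA (P : Set (V F)) : Prop := ∀ v ∈ P, v.2.1 = 0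

/-- Translates of those. -/
def Bad (P : Set (V F)) : Prop := ∃ a : F, InA (sU a '' P)

/-- The base point. -/
def zpt (Nb : Subgroup (Equiv.Perm (V F))) : Pts Nb := ⟨Z0 F, 1, one_mem _, by simp⟩

/-- The fixed points of the involution. -/
def piSet (Nb : Subgroup (Equiv.Perm (V F))) : Set (Pts Nb) := {P | InA P.1}

/-- The fixed points of the involution other than the base point. -/
def piSet' (Nb : Subgroup (Equiv.Perm (V F))) : Set (Pts Nb) := piSet Nb \ {zpt Nb}

theorem inA_Z0 : InA (Z0 F) := fun v hv => by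
  obtain ⟨a, rfl⟩ := mem_Z0.mp hv
  rfl

theorem inA_hT {P : Set (V F)} (h : InA P) (l : Fˣ) : InA (hT l '' P) := by
  rintro _ ⟨⟨a, b, c⟩, hv, rfl⟩
  simp [show b = 0 from h _ hv]

theorem bad_sU {P : Set (V F)} (t : F) : Bad (sU t '' P) ↔ Bad P := by
  constructor
  · rintro ⟨a, ha⟩
    exact ⟨a + t, by rwa [sU_add, image_mul]⟩
  · rintro ⟨a, ha⟩
    refine ⟨a - t, ?_⟩
    rwa [← image_mul, ← sU_add, sub_add_cancel]

theorem bad_hT {P : Set (V F)} (l : Fˣ) (h : Bad P) : Bad (hT l '' P) := by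
  obtain ⟨a, ha⟩ := h
  refine ⟨a * ((l⁻¹ : Fˣ) : F), ?_⟩
  rw [← image_mul, ← hT_sU, image_mul]
  exact inA_hT ha l

theorem bad_hT_iff {P : Set (V F)} (l : Fˣ) : Bad (hT l '' P) ↔ Bad P := by
  refine ⟨fun h => ?_, bad_hT l⟩
  have := bad_hT l⁻¹ h
  rwa [← image_mul, ← hT_mul, inv_mul_cancel, hT_one, Equiv.Perm.coe_one, Set.image_id] at this

namespace Hyp

variable {Nb : Subgroup (Equiv.Perm (V F))} {p : ℕ} (H : Hyp Nb p)
include H

theorem inA_iff {P : Set (V F)} (hP : IsPt Nb P) : InA P ↔ jT F '' P = P := by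
  refine ⟨fun h => ?_, fun h v hv => H.j_fix hP h hv⟩
  ext v
  constructor
  · rintro ⟨u, hu, rfl⟩
    rwa [H.j_fix' h hu]
  · exact fun hv => ⟨v, hv, H.j_fix' h hv⟩

theorem card_pts_dvd : Nat.card (Pts Nb) ∣ Nat.card Nb := by
  have h : MulAction.orbit Nb (zpt Nb) = Set.univ := by
    refine Set.eq_univ_of_forall fun P => ?_
    obtain ⟨g, hg, e⟩ := P.2
    exact ⟨⟨g, hg⟩, Subtype.ext e.symm⟩
  rw [← Set.ncard_univ (Pts Nb), ← h, ← MulAction.index_stabilizer]
  exact Subgroup.index_dvd_card _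

theorem prime_not_dvd_pi : ¬ p ∣ (piSet Nb).ncard := by
  intro hd
  haveI := Fact.mk H.prime
  haveI := H.char
  set W : Subgroup Nb := Subgroup.centralizer {(⟨jT F, H.j_mem⟩ : Nb)} with hW
  have horb : MulAction.orbit W (zpt Nb) = piSet Nb := by
    ext P
    constructor
    · rintro ⟨⟨w, hw⟩, rfl⟩
      rintro _ ⟨v, hv, rfl⟩
      have hc : w.1 * jT F = jT F * w.1 :=
        congrArg Subtype.val (Subgroup.mem_centralizer_singleton_iff.mp hw)
      have h1 := congrFun (congrArg DFunLike.coe hc) v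
      simp only [Equiv.Perm.mul_apply, H.j_fix' inA_Z0 hv] at h1
      revert h1
      generalize w.1 v = u
      obtain ⟨a, b, c⟩ := u
      intro h1
      simp at h1
      exact mul_left_cancel₀ H.two (by linear_combination h1)
    · intro hP
      obtain ⟨w, hw, hc, e⟩ := H.trans_pi P.2 hP
      exact ⟨⟨⟨w, hw⟩, Subgroup.mem_centralizer_singleton_iff.mpr (Subtype.ext hc)⟩, Subtype.ext e⟩
  have hpW : p ∣ Nat.card W := by
    rw [← horb, ← MulAction.index_stabilizer] at hd
    exact hd.trans (Subgroup.index_dvd_card _)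
  obtain ⟨x, hx⟩ := exists_prime_orderOf_dvd_card' p hpW
  set X : Equiv.Perm (V F) := x.1.1 with hX
  have hXmem : X ∈ Nb := x.1.2
  have hXo : orderOf X = p := by
    rw [hX, Subgroup.orderOf_coe, Subgroup.orderOf_coe, hx]
  have hXj : X * jT F = jT F * X := congrArg Subtype.val (Subgroup.mem_centralizer_singleton_iff.mp x.2)
  obtain ⟨g, hg, t, ht⟩ := H.sylow X hXmem hXo
  have ht0 : t ≠ 0 := by
    rintro rfl
    rw [sU_zero] at ht
    have : X = 1 := by
      calc X = g⁻¹ * (g * X * g⁻¹) * g := by group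
        _ = 1 := by rw [ht]; group
    rw [this, orderOf_one] at hXo
    exact H.prime.one_lt.ne hXo
  have hXe : X = g⁻¹ * sU t * g := by rw [← ht]; group
  set P : Set (V F) := (g⁻¹ : Equiv.Perm (V F)) '' Z0 F with hPdef
  have hfix : ∀ v, X v = v ↔ v ∈ P := by
    intro v
    rw [hXe]
    constructor
    · intro hv
      have h1 : sU t (g v) = g v := by
        have := congrArg g hv
        simpa [Equiv.Perm.mul_apply] using this
      refine ⟨g v, ?_, by simp⟩
      revert h1
      generalize g v = u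
      obtain ⟨a, b, c⟩ := u
      intro h1
      simp only [sU_apply, Prod.mk.injEq, and_true] at h1
      obtain ⟨e1, e2⟩ := h1
      have hc : c = 0 := mul_left_cancel₀ ht0 (by linear_combination e2)
      subst hc
      have hb : b = 0 := mul_left_cancel₀ (mul_ne_zero H.two ht0) (by linear_combination e1)
      simp [Z0, hb]
    · rintro ⟨u, hu, rfl⟩
      obtain ⟨a, rfl⟩ := mem_Z0.mp hu
      simp [Equiv.Perm.mul_apply]
  have hP : IsPt Nb P := ⟨g⁻¹, inv_mem hg, rfl⟩
  have hPA : InA P := by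
    rw [H.inA_iff hP]
    ext v
    constructor
    · rintro ⟨u, hu, rfl⟩
      rw [← hfix] at hu ⊢
      conv_lhs => rw [← Equiv.Perm.mul_apply, hXj, Equiv.Perm.mul_apply, hu]
    · intro hv
      refine ⟨jT F v, ?_, by rw [← Equiv.Perm.mul_apply, jT_mul_self, Equiv.Perm.one_apply]⟩
      rw [← hfix] at hv ⊢
      conv_lhs => rw [← Equiv.Perm.mul_apply, hXj, Equiv.Perm.mul_apply, hv]
  obtain ⟨w, hw, hwj, hwZ⟩ := H.trans_pi hP hPA
  set y := w⁻¹ * X * w with hy
  have hy1 : y (1, 0, 0) = (1, 0, 0) := by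
    have : X (w (1, 0, 0)) = w (1, 0, 0) := (hfix _).mpr (hwZ ▸ ⟨_, mem_Z0.mpr ⟨1, rfl⟩, rfl⟩)
    simp [hy, Equiv.Perm.mul_apply, this]
  obtain ⟨s, l, hyl⟩ := H.stab y (mul_mem (mul_mem (inv_mem hw) hXmem) hw) 1 one_ne_zero hy1
  have hpow : ∀ (k : ℕ), ∃ s', (sU s * hT l) ^ k = sU s' * hT (l ^ k) := by
    intro k
    induction k with
    | zero => exact ⟨0, by simp [sU_zero, hT_one]⟩
    | succ k ih =>
      obtain ⟨s', e⟩ := ih
      exact ⟨s' + s * (((l ^ k)⁻¹ : Fˣ) : F), by rw [pow_succ, e, sh_mul, pow_succ]⟩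
  have hyp : y ^ p = 1 := by
    have := pow_orderOf_eq_one X
    rw [hXo] at this
    rw [hy, show w⁻¹ * X * w = w⁻¹ * X * w⁻¹⁻¹ by rw [inv_inv], conj_pow, this]
    group
  obtain ⟨s', es⟩ := hpow p
  rw [← hyl, hyp] at es
  obtain ⟨-, hlp⟩ := sh_inj H.two ((show (sU (0 : F) * hT 1) = 1 by simp [sU_zero, hT_one]).trans es)
  have hl : l = 1 := by
    refine Units.ext (sub_eq_zero.mp (eq_zero_of_pow_eq_zero (n := p) ?_))
    rw [Units.val_one, sub_pow_char, one_pow, ← Units.val_pow_eq_pow_val, ← hlp, Units.val_one, sub_self]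
  subst hl
  rw [hT_one, mul_one] at hyl
  have hyj : y * jT F = jT F * y := by
    have hwj' : w⁻¹ * jT F = jT F * w⁻¹ := by
      calc w⁻¹ * jT F = w⁻¹ * (jT F * w) * w⁻¹ := by group
        _ = w⁻¹ * (w * jT F) * w⁻¹ := by rw [hwj]
        _ = _ := by group
    rw [hy]
    calc w⁻¹ * X * w * jT F = w⁻¹ * X * (jT F * w) := by rw [← hwj]; group
      _ = w⁻¹ * (X * jT F) * w := by group
      _ = w⁻¹ * (jT F * X) * w := by rw [hXj]
      _ = (w⁻¹ * jT F) * X * w := by group
      _ = (jT F * w⁻¹) * X * w := by rw [hwj']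
      _ = _ := by group
  rw [hyl, jT, hT_sU] at hyj
  obtain ⟨e, -⟩ := sh_inj H.two hyj
  simp at e
  have hs : s = 0 := mul_left_cancel₀ H.two (by linear_combination e)
  rw [hs, sU_zero] at hyl
  have : X = 1 := by
    calc X = w * y * w⁻¹ := by rw [hy]; group
      _ = 1 := by rw [hyl]; group
  rw [this, orderOf_one] at hXo
  exact H.prime.one_lt.ne hXo

theorem pi_dvd : (piSet Nb).ncard ∣ Nat.card (Pts Nb) * Fintype.card F := by
  let T : Set (Equiv.Perm (V F)) := {t | ∃ g ∈ Nb, t = g * jT F * g⁻¹}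
  let X := {x : T × Pts Nb // ∀ v ∈ x.2.1, (x.1 : Equiv.Perm (V F)) v = v}
  have h1 : Nat.card X = Nat.card T * (piSet Nb).ncard := by
    rw [← Nat.card_coe_set_eq, ← Nat.card_prod]
    choose g hg hge using fun t : T => t.2
    refine Nat.card_congr ((Equiv.subtypeProdEquivSigmaSubtype (fun (t : T) (P : Pts Nb) =>
      ∀ v ∈ P.1, (t : Equiv.Perm (V F)) v = v)).trans ((Equiv.sigmaCongrRight fun t => ?_).trans
        (Equiv.sigmaEquivProd T (piSet Nb))))
    refine Equiv.subtypeEquiv (MulAction.toPerm (⟨(g t)⁻¹, inv_mem (hg t)⟩ : Nb)) fun P => ?_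
    show _ ↔ InA (((g t)⁻¹ : Equiv.Perm (V F)) '' P.1)
    constructor
    · rintro h _ ⟨v, hv, rfl⟩
      have h' := h v hv
      rw [hge] at h'
      have h2 := congrArg ((g t)⁻¹ : Equiv.Perm (V F)) h'
      simp [Equiv.Perm.mul_apply] at h2
      revert h2
      generalize (g t).symm v = u
      obtain ⟨a, b, c⟩ := u
      intro h2
      simp at h2
      exact mul_left_cancel₀ H.two (by linear_combination -h2)
    · intro h v hv
      have := H.j_fix' h ⟨v, hv, rfl⟩
      rw [hge]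
      simp [Equiv.Perm.mul_apply] at this ⊢
      rw [this, Equiv.apply_symm_apply]
  have h2 : Nat.card X = Nat.card (Pts Nb) * Fintype.card F := by
    rw [← Nat.card_eq_fintype_card, ← Nat.card_prod]
    choose g hg hge using fun P : Pts Nb => P.2
    refine Nat.card_congr (((Equiv.prodComm _ _).subtypeEquiv (fun x => Iff.rfl)).trans
      ((Equiv.subtypeProdEquivSigmaSubtype (fun (P : Pts Nb) (t : T) =>
      ∀ v ∈ P.1, (t : Equiv.Perm (V F)) v = v)).trans ((Equiv.sigmaCongrRight fun P => ?_).trans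
        (Equiv.sigmaEquivProd (Pts Nb) F))))
    let φ : F → {t : T // ∀ v ∈ P.1, (t : Equiv.Perm (V F)) v = v} := fun a =>
      ⟨⟨g P * sU a * jT F * (g P * sU a)⁻¹, g P * sU a, mul_mem (hg P) (H.s_mem a), rfl⟩, by
        intro v hv
        rw [hge P] at hv
        obtain ⟨u, hu, rfl⟩ := hv
        obtain ⟨x, rfl⟩ := mem_Z0.mp hu
        simp [mul_inv_rev, Equiv.Perm.mul_apply, sU_inv]⟩
    refine (Equiv.ofBijective φ ⟨fun a b e => ?_, ?_⟩).symm
    · have e' : g P * sU a * jT F * (g P * sU a)⁻¹ = g P * sU b * jT F * (g P * sU b)⁻¹ :=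
        congrArg (fun z => (z.1.1 : Equiv.Perm (V F))) e
      have e'' : sU a * jT F * (sU a)⁻¹ = sU b * jT F * (sU b)⁻¹ := by
        calc sU a * jT F * (sU a)⁻¹ = (g P)⁻¹ * (g P * sU a * jT F * (g P * sU a)⁻¹) * g P := by group
          _ = _ := by rw [e']; group
      rw [conj_jT, conj_jT] at e''
      have := (sh_inj H.two e'').1
      exact mul_left_cancel₀ H.two (by linear_combination this)
    · rintro ⟨⟨t, x, hx, rfl⟩, ht⟩
      have hf : ((g P)⁻¹ * (x * jT F * x⁻¹) * g P) (1, 0, 0) = (1, 0, 0) := by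
        have : (x * jT F * x⁻¹) (g P (1, 0, 0)) = g P (1, 0, 0) :=
          ht _ ((hge P).symm ▸ ⟨_, mem_Z0.mpr ⟨1, rfl⟩, rfl⟩)
        simp [Equiv.Perm.mul_apply] at this ⊢
        rw [this, Equiv.symm_apply_apply]
      obtain ⟨b, he⟩ := H.invol
        (mul_mem (mul_mem (inv_mem (hg P)) (mul_mem (mul_mem hx H.j_mem) (inv_mem hx))) (hg P))
        (by calc (g P)⁻¹ * (x * jT F * x⁻¹) * g P * ((g P)⁻¹ * (x * jT F * x⁻¹) * g P)
              = (g P)⁻¹ * x * (jT F * jT F) * x⁻¹ * g P := by group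
            _ = 1 := by rw [jT_mul_self]; group)
        (fun e => H.jT_ne (by
          calc jT F = x⁻¹ * g P * ((g P)⁻¹ * (x * jT F * x⁻¹) * g P) * (g P)⁻¹ * x := by group
            _ = 1 := by rw [e]; group)) one_ne_zero hf
      refine ⟨b, Subtype.ext (Subtype.ext ?_)⟩
      show g P * sU b * jT F * (g P * sU b)⁻¹ = x * jT F * x⁻¹
      calc g P * sU b * jT F * (g P * sU b)⁻¹ = g P * (sU b * jT F * (sU b)⁻¹) * (g P)⁻¹ := by group
        _ = _ := by rw [← he]; group
  exact ⟨Nat.card T, by rw [← h2, h1, mul_comm]⟩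

theorem hT_fixed {μ : Fˣ} (h1 : μ ^ 2 ≠ 1) {v : V F} (hv : hT μ v = v) : v ∈ Z0 F := by
  obtain ⟨a, b, c⟩ := v
  simp only [hT_apply, Prod.mk.injEq, true_and] at hv
  have hb : b = 0 := by
    by_contra hb
    exact h1 (Units.ext (by
      have : (μ : F) = 1 := mul_right_cancel₀ hb (by linear_combination hv.1)
      simp [this]))
  have hc : c = 0 := by
    by_contra hc
    exact h1 (Units.ext (by
      have : (μ : F) * μ = 1 := mul_right_cancel₀ hc (by linear_combination hv.2)
      simp [pow_two, this]))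
  simp [Z0, hb, hc]

theorem bad_of_prime_fix {μ : Fˣ} {r : ℕ} (hr : r.Prime) (hr2 : r ≠ 2) (hμr : orderOf μ = r)
    {Q : Set (V F)} (hQ : IsPt Nb Q) (h : hT μ '' Q = Q) : Bad Q := by
  haveI := Fact.mk hr
  have hμ1 : μ ^ 2 ≠ 1 := by
    intro e
    have := orderOf_dvd_of_pow_eq_one e
    rw [hμr] at this
    exact hr2 ((Nat.prime_dvd_prime_iff_eq hr Nat.prime_two).mp this)
  let hh : Equiv.Perm (V F) := hT μ
  have hhm : hh ∈ Nb := H.h_mem μ
  let I := {t : Equiv.Perm (V F) // t ∈ Nb ∧ t * t = 1 ∧ t ≠ 1 ∧ ∀ v ∈ Q, t v = v}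
  obtain ⟨g, hg, hgQ⟩ := id hQ
  have hI : Nat.card I = Nat.card F := by
    let φ : F → I := fun a => ⟨g * sU a * jT F * (g * sU a)⁻¹,
      mul_mem (mul_mem (mul_mem hg (H.s_mem a)) H.j_mem) (inv_mem (mul_mem hg (H.s_mem a))),
      by
        calc _ = g * sU a * (jT F * jT F) * (g * sU a)⁻¹ := by group
          _ = 1 := by rw [jT_mul_self]; group,
      fun e => H.jT_ne (by
        calc jT F = (g * sU a)⁻¹ * (g * sU a * jT F * (g * sU a)⁻¹) * (g * sU a) := by group
          _ = 1 := by rw [e]; group),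
      by
        rw [hgQ]
        rintro _ ⟨u, hu, rfl⟩
        obtain ⟨x, rfl⟩ := mem_Z0.mp hu
        simp [mul_inv_rev, Equiv.Perm.mul_apply, sU_inv]⟩
    refine (Nat.card_eq_of_bijective φ ⟨fun a b e => ?_, ?_⟩).symm
    · have e' : g * sU a * jT F * (g * sU a)⁻¹ = g * sU b * jT F * (g * sU b)⁻¹ :=
        congrArg Subtype.val e
      have e'' : sU a * jT F * (sU a)⁻¹ = sU b * jT F * (sU b)⁻¹ := by
        calc sU a * jT F * (sU a)⁻¹ = g⁻¹ * (g * sU a * jT F * (g * sU a)⁻¹) * g := by group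
          _ = g⁻¹ * (g * sU b * jT F * (g * sU b)⁻¹) * g := by rw [e']
          _ = _ := by group
      rw [conj_jT, conj_jT] at e''
      exact mul_left_cancel₀ H.two (by linear_combination (sh_inj H.two e'').1)
    · rintro ⟨t, ht, ht2, ht1, htQ⟩
      have hf : (g⁻¹ * t * g) (1, 0, 0) = (1, 0, 0) := by
        simp [Equiv.Perm.mul_apply, htQ (g (1, 0, 0)) (by rw [hgQ]; exact ⟨_, mem_Z0.mpr ⟨1, rfl⟩, rfl⟩)]
      obtain ⟨b, he⟩ := H.invol (mul_mem (mul_mem (inv_mem hg) ht) hg)
        (by calc g⁻¹ * t * g * (g⁻¹ * t * g) = g⁻¹ * (t * t) * g := by group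
              _ = 1 := by rw [ht2]; group)
        (fun e => ht1 (by
          calc t = g * (g⁻¹ * t * g) * g⁻¹ := by group
            _ = 1 := by rw [e]; group)) one_ne_zero hf
      refine ⟨b, Subtype.ext ?_⟩
      calc g * sU b * jT F * (g * sU b)⁻¹ = g * (sU b * jT F * (sU b)⁻¹) * g⁻¹ := by group
        _ = _ := by rw [← he]; group
  have hinv : (hh⁻¹ : Equiv.Perm (V F)) '' Q = Q := by
    conv_lhs => rw [← h]
    exact inv_image _ _
  have hmem : ∀ t : Equiv.Perm (V F),
      (t ∈ Nb ∧ t * t = 1 ∧ t ≠ 1 ∧ ∀ v ∈ Q, t v = v) → ∀ x : Equiv.Perm (V F), x ∈ Nb → x '' Q = Q →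
      (x * t * x⁻¹ ∈ Nb ∧ x * t * x⁻¹ * (x * t * x⁻¹) = 1 ∧ x * t * x⁻¹ ≠ 1 ∧
        ∀ v ∈ Q, (x * t * x⁻¹) v = v) := by
    rintro t ⟨ht, ht2, ht1, htQ⟩ x hx hxQ
    refine ⟨mul_mem (mul_mem hx ht) (inv_mem hx), ?_, fun e => ht1 ?_, ?_⟩
    · calc _ = x * (t * t) * x⁻¹ := by group
        _ = 1 := by rw [ht2]; group
    · calc t = x⁻¹ * (x * t * x⁻¹) * x := by group
        _ = 1 := by rw [e]; group
    · intro v hv
      rw [← hxQ] at hv
      obtain ⟨u, hu, rfl⟩ := hv
      simp [Equiv.Perm.mul_apply, htQ u hu]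
  let σ : Equiv.Perm I := (MulAut.conj hh).toEquiv.subtypeEquiv fun t => by
    constructor
    · intro ht
      simpa [MulAut.conj_apply] using hmem t ht hh hhm h
    · intro ht
      have := hmem _ ht hh⁻¹ (inv_mem hhm) hinv
      simpa [MulAut.conj_apply, mul_assoc] using this
  have hσ : σ ^ r ^ 1 = 1 := by
    rw [pow_one]
    have hk : ∀ (k : ℕ) (t : I), ((σ ^ k) t).1 = hh ^ k * t.1 * (hh ^ k)⁻¹ := by
      intro k
      induction k with
      | zero => intro t; simp
      | succ k ih =>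
        intro t
        rw [pow_succ', Equiv.Perm.mul_apply]
        show hh * ((σ ^ k) t).1 * hh⁻¹ = _
        rw [ih]; group
    refine Equiv.ext fun t => Subtype.ext ?_
    have hhr : hh ^ r = 1 := by
      have hp : ∀ k : ℕ, hh ^ k = hT (μ ^ k) := by
        intro k
        induction k with
        | zero => simp [hT_one]
        | succ k ih => rw [pow_succ, ih, ← hT_mul, pow_succ]
      rw [hp, ← hμr, pow_orderOf_eq_one, hT_one]
    rw [hk, hhr]; simp
  obtain ⟨⟨t, ht, ht2, ht1, htQ⟩, hfix⟩ := Equiv.Perm.exists_fixed_point_of_prime (p := r) (n := 1)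
    (σ := σ) (by
      rw [← Nat.card_eq_fintype_card, hI, Nat.card_eq_fintype_card]
      intro hd
      have h1 : r ∣ Fintype.card F - 1 := by
        rw [← hμr, ← Fintype.card_units]
        exact orderOf_dvd_card
      have h2 := Nat.dvd_sub hd h1
      rw [Nat.sub_sub_self Fintype.card_pos] at h2
      exact hr.not_dvd_one h2) hσ
  have hcomm : hh * t = t * hh := by
    have : hh * t * hh⁻¹ = t := congrArg Subtype.val hfix
    calc hh * t = hh * t * hh⁻¹ * hh := by group
      _ = t * hh := by rw [this]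
  have htZ : ∀ v ∈ Z0 F, t v ∈ Z0 F := by
    intro v hv
    refine H.hT_fixed hμ1 ?_
    have := congrFun (congrArg DFunLike.coe hcomm) v
    simp only [Equiv.Perm.mul_apply] at this
    rw [show hT μ (t v) = t (hh v) from this]
    congr 1
    obtain ⟨a, rfl⟩ := mem_Z0.mp hv
    simp [hh]
  obtain ⟨a, ha, hv⟩ : ∃ a : F, a ≠ 0 ∧ t (a, 0, 0) = (a, 0, 0) := by
    obtain ⟨a, ha⟩ := mem_Z0.mp (htZ (1, 0, 0) (mem_Z0.mpr ⟨1, rfl⟩))
    have hta : t ((1 : F) + a, 0, 0) = (1 + a, 0, 0) := by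
      have : ((1 : F) + a, (0 : F), (0 : F)) = (1, 0, 0) + (a, 0, 0) := by simp
      rw [this, H.add t ht, ha]
      conv_lhs => rw [← ha, ← Equiv.Perm.mul_apply, ht2, Equiv.Perm.one_apply]
      rw [ha]
      simp [add_comm]
    by_cases h1a : (1 : F) + a = 0
    · exfalso
      have ha1 : a = -1 := by linear_combination h1a
      -- `t` inverts the base line: a conjugate of the base line lies in the line of the `b`-axis
      have hall : ∀ v ∈ Z0 F, t v + v = 0 := by
        intro v hv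
        by_contra hne
        have hf : t (t v + v) = t v + v := by
          rw [H.add t ht, ← Equiv.Perm.mul_apply, ht2, Equiv.Perm.one_apply, add_comm]
        have hz : t v + v ∈ Z0 F := H.pt_add H.isPt_Z0 (htZ v hv) hv
        have := H.pointwise H.isPt_Z0 ht hne hz hf (mem_Z0.mpr ⟨1, rfl⟩ : ((1, 0, 0) : V F) ∈ Z0 F)
        rw [ha, ha1] at this
        simp at this
        exact H.two (by linear_combination -this)
      obtain ⟨b, heb⟩ : ∃ b, g⁻¹ * t * g = sU b * jT F * (sU b)⁻¹ := by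
        refine H.invol (mul_mem (mul_mem (inv_mem hg) ht) hg)
          (by calc g⁻¹ * t * g * (g⁻¹ * t * g) = g⁻¹ * (t * t) * g := by group
                _ = 1 := by rw [ht2]; group)
          (fun e => ht1 (by
            calc t = g * (g⁻¹ * t * g) * g⁻¹ := by group
              _ = 1 := by rw [e]; group)) one_ne_zero ?_
        simp [Equiv.Perm.mul_apply, htQ (g (1, 0, 0)) (by rw [hgQ]; exact ⟨_, mem_Z0.mpr ⟨1, rfl⟩, rfl⟩)]
      set x := g * sU b with hx
      have hxm : x ∈ Nb := mul_mem hg (H.s_mem b)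
      have htx : t = x * jT F * x⁻¹ := by
        calc t = g * (g⁻¹ * t * g) * g⁻¹ := by group
          _ = _ := by rw [heb, hx]; group
      have hP : IsPt Nb ((x⁻¹ : Equiv.Perm (V F)) '' Z0 F) := ⟨x⁻¹, inv_mem hxm, rfl⟩
      obtain ⟨v, hv, hv0⟩ := H.exists_ne_zero hP
      have hb0 : v.1 = 0 ∧ v.2.2 = 0 := by
        obtain ⟨u, hu, rfl⟩ := hv
        have h1 := hall u hu
        rw [htx] at h1
        have h2 : jT F (x.symm u) + x.symm u = 0 := by
          refine H.eq_zero_of_map hxm ?_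
          rw [H.add x hxm]
          simpa [Equiv.Perm.mul_apply] using h1
        show (x.symm u).1 = 0 ∧ (x.symm u).2.2 = 0
        revert h2
        generalize x.symm u = w
        obtain ⟨p', q', r'⟩ := w
        intro h2
        simp at h2
        exact ⟨mul_left_cancel₀ H.two (by linear_combination h2.1),
          mul_left_cancel₀ H.two (by linear_combination h2.2)⟩
      by_cases hne : (x⁻¹ : Equiv.Perm (V F)) '' Z0 F = Z0 F
      · rw [hne] at hv
        obtain ⟨c, rfl⟩ := mem_Z0.mp hv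
        exact hv0 (by simp [show c = 0 from hb0.1])
      · exact hv0 (H.c_zero hP hne hv hb0.2)
    · exact ⟨_, h1a, hta⟩
  obtain ⟨b, heb⟩ := H.invol ht ht2 ht1 ha hv
  have htj : t = jT F := by
    have e1 := hcomm
    rw [heb, conj_jT, show hh = sU 0 * hT μ by simp [hh, sU_zero], sh_mul, sh_mul] at e1
    have e2 := (sh_inj H.two e1).1
    simp at e2
    have h1 : ((μ⁻¹ : Fˣ) : F) ≠ 1 := fun e => hμ1 (by
      have : μ⁻¹ = 1 := Units.ext e
      simp [inv_eq_one.mp this])
    have : b + b = 0 := mul_left_cancel₀ (sub_ne_zero.mpr h1) (by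
      rw [Units.val_inv_eq_inv_val]
      linear_combination e2)
    rw [heb, conj_jT, this, sU_zero, one_mul, jT]
  refine ⟨0, ?_⟩
  rw [sU_zero, Equiv.Perm.coe_one, Set.image_id, H.inA_iff hQ]
  ext v
  exact ⟨fun ⟨u, hu, e⟩ => by rw [← htj, htQ u hu] at e; exact e ▸ hu,
    fun hv => ⟨v, hv, by rw [← htj, htQ v hv]⟩⟩

theorem free {P : Set (V F)} (hP : IsPt Nb P) (hgood : ¬ Bad P) {t : F} {l : Fˣ}
    (h : (sU t * hT l) '' P = P) : sU t * hT l = 1 := by
  have hne : P ≠ Z0 F := fun e => hgood ⟨0, by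
    rw [sU_zero, Equiv.Perm.coe_one, Set.image_id, e]; exact inA_Z0⟩
  by_cases hl1 : l = 1
  · subst hl1
    rw [hT_one, mul_one] at h ⊢
    rw [H.semireg hP hne h, sU_zero]
  exfalso
  by_cases hl2 : l = -1
  · subst hl2
    apply hgood
    refine ⟨-(t / 2), ?_⟩
    rw [H.inA_iff (H.isPt_image hP (H.s_mem _)), ← image_mul]
    have he : jT F * sU (-(t / 2)) = sU (-(t / 2)) * (sU t * hT (-1)) := by
      rw [← mul_assoc, ← sU_add, jT, hT_sU, show -(t / 2) + t = t / 2 by
        have := mul_div_cancel₀ t H.two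
        linear_combination (-1 : F) * this]
      simp
    rw [he, image_mul, h]
  · have hl : (l : F) ≠ 1 := fun e => hl1 (Units.ext e)
    have hl' : ((l⁻¹ : Fˣ) : F) ≠ 1 := fun e => hl1 (inv_eq_one.mp (Units.ext e))
    set b : F := -t / (1 - ((l⁻¹ : Fˣ) : F)) with hb
    have hconj : sU b * (sU t * hT l) = hT l * sU b := by
      rw [hT_sU, ← mul_assoc, ← sU_add]
      congr 2
      have h0 : (1 - ((l⁻¹ : Fˣ) : F)) ≠ 0 := sub_ne_zero.mpr (Ne.symm hl')
      rw [hb]
      field_simp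
      ring
    set Q := sU b '' P with hQdef
    have hQ : IsPt Nb Q := H.isPt_image hP (H.s_mem b)
    have hQfix : hT l '' Q = Q := by
      rw [hQdef, ← image_mul, ← hconj, image_mul, h]
    have hQbad : ¬ Bad Q := by rwa [hQdef, bad_sU]
    have hfixpow : ∀ k : ℕ, hT (l ^ k) '' Q = Q := by
      intro k
      induction k with
      | zero => simp [hT_one]
      | succ k ih => rw [pow_succ, hT_mul, image_mul, hQfix, ih]
    have hμ : l ^ 2 ≠ 1 := by
      intro e
      rcases mul_self_eq_one_iff.mp (show (l : F) * l = 1 by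
        rw [← Units.val_mul, ← pow_two, e, Units.val_one]) with e' | e'
      · exact hl e'
      · exact hl2 (Units.ext (by simpa using e'))
    obtain ⟨r, hr, hrd⟩ := Nat.exists_prime_and_dvd (fun e => hμ (orderOf_eq_one_iff.mp e))
    have hr2 : r ≠ 2 := by
      rintro rfl
      have h1 : orderOf (l ^ 2) ∣ (Fintype.card F - 1) / 2 := by
        refine orderOf_dvd_of_pow_eq_one ?_
        rw [← pow_mul, Nat.mul_div_cancel' (by
          have := H.card_mod
          omega), ← Fintype.card_units]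
        exact pow_card_eq_one
      have := hrd.trans h1
      have := H.card_mod
      omega
    refine hQbad (H.bad_of_prime_fix hr hr2
      (orderOf_pow_orderOf_div (orderOf_pos (l ^ 2)).ne' hrd) hQ ?_)
    rw [← pow_mul]
    exact hfixpow _

end Hyp

end CfsgLib.PSpFourNormM
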