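import Cfsg.Agent.PSpFourNormM.Size

/-!
A group with `q + 1` points is the image of `GL₂`.
-/

set_option autoImplicit false
set_option linter.unusedSectionVars false
set_option linter.style.haveILetI false

open scoped Classical

namespace CfsgLib.PSpFourNormM

variable {F : Type*} [Field F] [Fintype F]

/-- The opposite line. -/
def C0 (F : Type*) [Field F] : Set (V F) := {v | v.1 = 0 ∧ v.2.1 = 0}

theorem mem_C0 {v : V F} : v ∈ C0 F ↔ ∃ c, v = (0, 0, c) := by
  obtain ⟨a, b, c⟩ := v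
  constructor
  · rintro ⟨rfl, rfl⟩; exact ⟨c, rfl⟩
  · rintro ⟨c', e⟩
    simp only [Prod.mk.injEq] at e
    exact ⟨e.1, e.2.1⟩

theorem sq_span {A : Type*} [AddCommGroup A] (h2 : (2 : F) ≠ 0) {f g : F →+ A}
    (h : ∀ x : F, f (x * x) = g (x * x)) : f = g := by
  ext c
  have e : c = (c + 1) / 2 * ((c + 1) / 2) - (c - 1) / 2 * ((c - 1) / 2) := by field_simp; ring
  rw [e, map_sub, map_sub, h, h]

theorem dM_mul (x y x' y' : Fˣ) : dM x y * dM x' y' = dM (x * x') (y * y') := by
  ext i j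
  fin_cases i <;> fin_cases j <;> simp [dM, Matrix.mul_apply, Fin.sum_univ_two]

theorem hT_eq (l : Fˣ) : hT l = symHom F (dM 1 l) := rfl

namespace Hyp

variable {Nb : Subgroup (Equiv.Perm (V F))} {p : ℕ} (H : Hyp Nb p)
include H

theorem exists_sU_of_pow {x : Equiv.Perm (V F)} (hx : x ∈ Nb) (hfix : x (1, 0, 0) = (1, 0, 0))
    (hp : x ^ p = 1) : ∃ t, x = sU t := by
  haveI := Fact.mk H.prime
  haveI := H.char
  obtain ⟨t, l, rfl⟩ := H.stab x hx 1 one_ne_zero hfix
  have hpow : ∀ (k : ℕ), ∃ s', (sU t * hT l) ^ k = sU s' * hT (l ^ k) := by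
    intro k
    induction k with
    | zero => exact ⟨0, by simp [sU_zero, hT_one]⟩
    | succ k ih =>
      obtain ⟨s', e⟩ := ih
      exact ⟨s' + t * (((l ^ k)⁻¹ : Fˣ) : F), by rw [pow_succ, e, sh_mul, pow_succ]⟩
  obtain ⟨s', es⟩ := hpow p
  rw [hp] at es
  obtain ⟨-, hlp⟩ := sh_inj H.two ((show (sU (0 : F) * hT 1) = 1 by simp [sU_zero, hT_one]).trans es)
  have hl : l = 1 := by
    refine Units.ext (sub_eq_zero.mp (eq_zero_of_pow_eq_zero (n := p) ?_))
    rw [Units.val_one, sub_pow_char, one_pow, ← Units.val_pow_eq_pow_val, ← hlp, Units.val_one, sub_self]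
  exact ⟨t, by rw [hl, hT_one, mul_one]⟩

theorem sU_pow_p (t : F) : sU t ^ p = 1 := by
  haveI := H.char
  rw [sU_pow, CharP.cast_eq_zero, zero_mul, sU_zero]

theorem neg_axis {x : Equiv.Perm (V F)} (hx : x ∈ Nb) (hxj : x * jT F = jT F * x) (b : F) :
    ∃ b', x (0, b, 0) = (0, b', 0) := by
  have h := congrFun (congrArg DFunLike.coe hxj) ((0, b, 0) : V F)
  simp only [Equiv.Perm.mul_apply, jT_apply] at h
  rw [show ((0, -b, 0) : V F) = -(0, b, 0) by simp, H.map_neg hx] at h
  revert h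
  generalize x (0, b, 0) = u
  obtain ⟨a, b', c⟩ := u
  intro h
  simp at h
  refine ⟨b', ?_⟩
  rw [show a = 0 from mul_left_cancel₀ H.two (by linear_combination -h.1),
    show c = 0 from mul_left_cancel₀ H.two (by linear_combination -h.2)]

/-- An element fixing the opposite axis pointwise and preserving the base point. -/
theorem diag_of_fix {x : Equiv.Perm (V F)} (hx : x ∈ Nb) (hZ : x '' Z0 F = Z0 F)
    (hC : ∀ c : F, x (0, 0, c) = (0, 0, c)) (hxj : x * jT F = jT F * x) :
    ∃ ν : Fˣ, x = symHom F (dM ν 1) := by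
  have h2 := H.two
  have hinvZ : ∀ v ∈ Z0 F, x⁻¹ v ∈ Z0 F := by
    intro v hv
    rw [← hZ] at hv
    obtain ⟨u, hu, rfl⟩ := hv
    simpa using hu
  have hfixconj : ∀ y : Equiv.Perm (V F), (∀ v ∈ Z0 F, y v = v) →
      (x * y * x⁻¹) (1, 0, 0) = (1, 0, 0) := by
    intro y hy
    have := hy _ (hinvZ (1, 0, 0) (mem_Z0.mpr ⟨1, rfl⟩))
    simp [Equiv.Perm.mul_apply] at this ⊢
    rw [this, Equiv.apply_symm_apply]
  have hj : x * hT (-1) = hT (-1) * x := hxj
  have hsq : ∀ s : Fˣ, x * hT (s * s) = hT (s * s) * x := by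
    intro s
    obtain ⟨t, l, he⟩ := H.stab (x * hT s * x⁻¹) (mul_mem (mul_mem hx (H.h_mem s)) (inv_mem hx)) 1
      one_ne_zero (hfixconj _ fun v hv => by
        obtain ⟨a, rfl⟩ := mem_Z0.mp hv
        simp)
    have h1 := congrFun (congrArg DFunLike.coe he) ((0, 0, 1) : V F)
    have hC' : x.symm (0, 0, 1) = (0, 0, 1) := by rw [Equiv.symm_apply_eq, hC]
    simp [Equiv.Perm.mul_apply, hC', hC] at h1
    obtain ⟨ht, h1c⟩ := h1
    subst ht
    rw [sU_zero, one_mul] at he
    have hll : l * l = s * s := Units.ext (by push_cast; exact h1c.symm)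
    have e2 : x * hT (s * s) * x⁻¹ = hT (s * s) := by
      rw [hT_mul]
      calc x * (hT s * hT s) * x⁻¹ = (x * hT s * x⁻¹) * (x * hT s * x⁻¹) := by group
        _ = _ := by rw [he, ← hT_mul, hll, hT_mul]
    calc x * hT (s * s) = x * hT (s * s) * x⁻¹ * x := by group
      _ = hT (s * s) * x := by rw [e2]
  have hcomm : ∀ μ : Fˣ, x * hT μ = hT μ * x := by
    intro μ
    obtain ⟨s, hs⟩ := sq_or_neg_sq H.card_mod (μ : F)
    have hs0 : s ≠ 0 := by
      rintro rfl
      rcases hs with e | e <;> simp [eq_comm (a := (0 : F)), Units.ne_zero] at e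
    rcases hs with e | e
    · rw [show μ = Units.mk0 s hs0 * Units.mk0 s hs0 from Units.ext e.symm]
      exact hsq _
    · rw [show μ = -1 * (Units.mk0 s hs0 * Units.mk0 s hs0) from
        Units.ext (by push_cast; rw [Units.val_mk0, e]; ring), hT_mul]
      rw [← mul_assoc, hj, mul_assoc, hsq, ← mul_assoc]
  obtain ⟨ν, hν⟩ := H.neg_axis hx hxj 1
  have hν0 : ν ≠ 0 := by
    rintro rfl
    have := H.eq_zero_of_map hx hν
    simp at this
  have hb : ∀ b : F, x (0, b, 0) = (0, b * ν, 0) := by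
    intro b
    by_cases hb0 : b = 0
    · subst hb0
      rw [show ((0 : F), (0 : F), (0 : F)) = (0 : V F) from rfl, H.map_zero hx]
      simp [Prod.ext_iff]
    · have := congrFun (congrArg DFunLike.coe (hcomm (Units.mk0 b hb0))) ((0, 1, 0) : V F)
      simp [Equiv.Perm.mul_apply, hν] at this
      exact this
  obtain ⟨π, hπ⟩ := H.exists_sU_of_pow (mul_mem (mul_mem hx (H.s_mem 1)) (inv_mem hx))
    (hfixconj _ fun v hv => by
      obtain ⟨a, rfl⟩ := mem_Z0.mp hv
      simp) (by rw [conj_pow, H.sU_pow_p]; group)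
  have hxs : x * sU 1 = sU π * x := by
    calc x * sU 1 = x * sU 1 * x⁻¹ * x := by group
      _ = sU π * x := by rw [hπ]
  have ha' : ∀ a : F, ∃ a', x (a, 0, 0) = (a', 0, 0) := fun a =>
    mem_Z0.mp (hZ ▸ Set.mem_image_of_mem x (mem_Z0.mpr ⟨a, rfl⟩))
  have hsplit : ∀ a b c : F, x (a, b, c) = x (a, 0, 0) + x (0, b, 0) + x (0, 0, c) := by
    intro a b c
    rw [← H.add x hx, ← H.add x hx]
    simp
  have hπν : π = ν ∧ x (1, 0, 0) = (π * π, 0, 0) := by
    have h := congrFun (congrArg DFunLike.coe hxs) ((0, 0, 1) : V F)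
    simp [Equiv.Perm.mul_apply, hC] at h
    rw [hsplit, hb, hC] at h
    obtain ⟨a', e⟩ := ha' 1
    rw [e] at h ⊢
    simp at h
    obtain ⟨h1, h3⟩ := h
    exact ⟨h3.symm, by rw [h1]⟩
  obtain ⟨rfl, -⟩ := hπν
  have ha : ∀ a : F, x (a, 0, 0) = (π * π * a, 0, 0) := by
    intro a
    have h := congrFun (congrArg DFunLike.coe hxs) ((0, a / 2, 0) : V F)
    simp [Equiv.Perm.mul_apply, hb] at h
    rw [mul_div_cancel₀ a h2, hsplit, hb, show ((0 : F), (0 : F), (0 : F)) = (0 : V F) from rfl,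
      H.map_zero hx] at h
    obtain ⟨a', e⟩ := ha' a
    rw [e] at h ⊢
    simp at h
    rw [h, Prod.mk.injEq]
    refine ⟨?_, rfl⟩
    field_simp
  refine ⟨Units.mk0 π hν0, Equiv.ext fun v => ?_⟩
  obtain ⟨a, b, c⟩ := v
  rw [hsplit, ha, hb, hC]
  simp [mul_comm b π]

theorem endgame (hC : IsPt Nb (C0 F)) (hcard : Nat.card (Pts Nb) = Fintype.card F + 1) :
    Nb = (symHom F).range := by
  have h2 := H.two
  have hCne : C0 F ≠ Z0 F := by
    intro e
    have : ((0, 0, 1) : V F) ∈ Z0 F := e ▸ mem_C0.mpr ⟨1, rfl⟩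
    simp [Z0] at this
  have hCA : InA (C0 F) := fun v hv => hv.2
  have hpts : ∀ P, IsPt Nb P → P = Z0 F ∨ ∃ t : F, P = sU t '' C0 F := by
    let ψ : Option F → Pts Nb := fun o => o.elim (zpt Nb) fun t =>
      ⟨sU t '' C0 F, H.isPt_image hC (H.s_mem t)⟩
    have hne : ∀ t : F, sU t '' C0 F ≠ Z0 F := by
      intro t e
      have : sU t (0, 0, 1) ∈ Z0 F := e ▸ Set.mem_image_of_mem _ (mem_C0.mpr ⟨1, rfl⟩)
      simp [Z0] at this
    have hψ : Function.Injective ψ := by
      rintro (_ | s) (_ | t) e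
      · rfl
      · exact absurd (congrArg Subtype.val e).symm (hne t)
      · exact absurd (congrArg Subtype.val e) (hne s)
      · have e' : sU s '' C0 F = sU t '' C0 F := congrArg Subtype.val e
        have := H.semireg hC hCne (t := -t + s) (by
          rw [sU_add, image_mul, e', ← image_mul, ← sU_add, neg_add_cancel, sU_zero,
            Equiv.Perm.coe_one, Set.image_id])
        exact congrArg some (by linear_combination this)
    have hb := (Nat.bijective_iff_injective_and_card ψ).mpr ⟨hψ, by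
      rw [hcard, Finite.card_option, Nat.card_eq_fintype_card]⟩
    intro P hP
    obtain ⟨o, ho⟩ := hb.2 ⟨P, hP⟩
    rcases o with _ | t
    · exact Or.inl (congrArg Subtype.val ho).symm
    · exact Or.inr ⟨t, (congrArg Subtype.val ho).symm⟩
  have hA : ∀ P, IsPt Nb P → InA P → P = Z0 F ∨ P = C0 F := by
    intro P hP hPA
    rcases hpts P hP with h | ⟨t, rfl⟩
    · exact Or.inl h
    · right
      have := hPA _ ⟨_, mem_C0.mpr ⟨1, rfl⟩, rfl⟩
      simp at this
      rw [this, sU_zero, Equiv.Perm.coe_one, Set.image_id]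
  obtain ⟨w, hw, hwj, hwZ⟩ := H.trans_pi hC hCA
  have hwC : w '' C0 F = Z0 F := by
    have hA' : InA (w '' C0 F) := by
      rw [H.inA_iff (H.isPt_image hC hw), ← image_mul, ← hwj, image_mul, (H.inA_iff hC).mp hCA]
    refine (hA _ (H.isPt_image hC hw) hA').resolve_right fun e => hCne ?_
    exact Set.image_injective.mpr w.injective (e.trans hwZ.symm)
  have hinvwC : ∀ c : F, ∃ a, (0, 0, c) = w (a, 0, 0) := by
    intro c
    obtain ⟨u, hu, e⟩ := (hwZ.symm ▸ mem_C0.mpr ⟨c, rfl⟩ : ((0, 0, c) : V F) ∈ w '' Z0 F)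
    obtain ⟨a, rfl⟩ := mem_Z0.mp hu
    exact ⟨a, e.symm⟩
  have hTC : ∀ l : Fˣ, hT l '' C0 F = C0 F := by
    intro l
    refine Set.eq_of_subset_of_ncard_le ?_ (le_of_eq (Set.ncard_image_of_injective _ (hT l).injective).symm)
    rintro _ ⟨v, hv, rfl⟩
    obtain ⟨c, rfl⟩ := mem_C0.mp hv
    exact mem_C0.mpr ⟨(l : F) * l * c, by simp⟩
  have hwinvC : (w⁻¹ : Equiv.Perm (V F)) '' C0 F = Z0 F := by rw [← hwZ, inv_image]
  have hwinvZ : (w⁻¹ : Equiv.Perm (V F)) '' Z0 F = C0 F := by rw [← hwC, inv_image]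
  have hconj : ∀ l : Fˣ, ∃ ν : Fˣ, w * hT l * w⁻¹ = symHom F (dM ν 1) := by
    intro l
    refine H.diag_of_fix (mul_mem (mul_mem hw (H.h_mem l)) (inv_mem hw)) ?_ ?_ ?_
    · rw [image_mul, image_mul, hwinvZ, hTC, hwC]
    · intro c
      obtain ⟨a, e⟩ := hinvwC c
      rw [e]
      simp [Equiv.Perm.mul_apply]
    · have h1 : w⁻¹ * jT F = jT F * w⁻¹ := by
        calc w⁻¹ * jT F = w⁻¹ * (jT F * w) * w⁻¹ := by group
          _ = w⁻¹ * (w * jT F) * w⁻¹ := by rw [hwj]
          _ = _ := by group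
      have h2 : hT l * jT F = jT F * hT l := by rw [jT, ← hT_mul, ← hT_mul, mul_comm]
      calc w * hT l * w⁻¹ * jT F = w * hT l * (w⁻¹ * jT F) := by group
        _ = w * hT l * (jT F * w⁻¹) := by rw [h1]
        _ = w * (hT l * jT F) * w⁻¹ := by group
        _ = w * (jT F * hT l) * w⁻¹ := by rw [h2]
        _ = (w * jT F) * hT l * w⁻¹ := by group
        _ = (jT F * w) * hT l * w⁻¹ := by rw [hwj]
        _ = _ := by group
  choose nu hnu using hconj
  have hnu_inj : Function.Injective nu := by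
    intro l l' e
    have h : w * hT l * w⁻¹ = w * hT l' * w⁻¹ := by rw [hnu, hnu, e]
    have h' : hT l = hT l' := mul_left_cancel (mul_right_cancel h)
    exact (sh_inj H.two (t := 0) (t' := 0) (by rw [h'])).2
  have hd : ∀ x y : Fˣ, symHom F (dM x y) ∈ Nb := by
    intro x y
    obtain ⟨l, rfl⟩ := (Finite.injective_iff_surjective.mp hnu_inj) x
    rw [show dM (nu l) y = dM (nu l) 1 * dM 1 y by rw [dM_mul, mul_one, one_mul], map_mul, ← hnu,
      ← hT_eq]
    exact mul_mem (mul_mem (mul_mem hw (H.h_mem l)) (inv_mem hw)) (H.h_mem y)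
  -- the stabiliser of the two axes
  have hX : ∀ x ∈ Nb, x '' Z0 F = Z0 F → x '' C0 F = C0 F → ∃ ν l : Fˣ, x = symHom F (dM ν l) := by
    intro x hx hxZ hxC
    obtain ⟨a, ha⟩ := mem_Z0.mp (hxZ ▸ Set.mem_image_of_mem x (mem_Z0.mpr ⟨1, rfl⟩) :
      x (1, 0, 0) ∈ Z0 F)
    obtain ⟨s, hs⟩ := sq_or_neg_sq H.card_mod a
    have hs0 : s ≠ 0 := by
      rintro rfl
      have : a = 0 := by rcases hs with e | e <;> simpa [eq_comm] using e
      subst this
      simpa using H.eq_zero_of_map hx ha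
    rcases hs with e | e
    · set ν := Units.mk0 s hs0
      have hy : (symHom F (dM ν 1))⁻¹ * x ∈ Nb := mul_mem (inv_mem (hd _ _)) hx
      obtain ⟨t, l, hl⟩ := H.stab _ hy 1 one_ne_zero (by
        rw [Equiv.Perm.mul_apply, ha, Equiv.Perm.inv_def, Equiv.symm_apply_eq]
        simp [ν, e])
      have hx' : x = symHom F (dM ν 1) * (sU t * hT l) := by rw [← hl, mul_inv_cancel_left]
      have hm : x (0, 0, 1) ∈ C0 F := hxC ▸ Set.mem_image_of_mem x (mem_C0.mpr ⟨1, rfl⟩)
      rw [hx'] at hm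
      obtain ⟨-, hm2⟩ := hm
      simp [Equiv.Perm.mul_apply, ν, hs0] at hm2
      refine ⟨ν, l, ?_⟩
      rw [hx', hm2, sU_zero, one_mul, hT_eq, ← map_mul, dM_mul, mul_one, one_mul]
    · exfalso
      apply H.notrans
      have key : ∀ a' : F, a' ≠ 0 → ∃ g ∈ Nb, g (1, 0, 0) = (a', 0, 0) := by
        intro a' ha'
        obtain ⟨u, hu⟩ := sq_or_neg_sq H.card_mod a'
        have hu0 : u ≠ 0 := by
          rintro rfl
          rcases hu with h | h <;> exact ha' (by simpa [eq_comm] using h)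
        rcases hu with h | h
        · exact ⟨_, hd (Units.mk0 u hu0) 1, by simp [h]⟩
        · refine ⟨symHom F (dM (Units.mk0 (u / s) (div_ne_zero hu0 hs0)) 1) * x, mul_mem (hd _ _) hx, ?_⟩
          rw [Equiv.Perm.mul_apply, ha]
          simp
          field_simp
          linear_combination a * h - a' * e
      intro a1 h1 a2 h2'
      obtain ⟨g1, hg1, e1⟩ := key a1 h1
      obtain ⟨g2, hg2, e2⟩ := key a2 h2'
      exact ⟨g2 * g1⁻¹, mul_mem hg2 (inv_mem hg1), by
        rw [Equiv.Perm.mul_apply, ← e1, Equiv.Perm.inv_def, Equiv.symm_apply_apply, e2]⟩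
  -- the swap is linear
  have hwwZ : (w * w) '' Z0 F = Z0 F := by rw [image_mul, hwZ, hwC]
  have hwwC : (w * w) '' C0 F = C0 F := by rw [image_mul, hwC, hwZ]
  obtain ⟨α, β, hww⟩ := hX _ (mul_mem hw hw) hwwZ hwwC
  choose e he using H.neg_axis hw hwj
  have he0 : e 1 ≠ 0 := by
    intro h0
    have := he 1
    rw [h0] at this
    have := H.eq_zero_of_map hw this
    simp at this
  have hwl : ∀ l : Fˣ, w * hT l = symHom F (dM (nu l) 1) * w := by
    intro l
    rw [← hnu, inv_mul_cancel_right]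
  have hemul : ∀ (l : Fˣ) (b : F), e ((l : F) * b) = (nu l : F) * e b := by
    intro l b
    have := congrFun (congrArg DFunLike.coe (hwl l)) ((0, b, 0) : V F)
    simp [Equiv.Perm.mul_apply, he] at this
    exact this
  have he_add : ∀ b b', e (b + b') = e b + e b' := by
    intro b b'
    have := H.add w hw (0, b, 0) (0, b', 0)
    simp [he] at this
    exact this
  set σ : F → F := fun b => e b / e 1 with hσ
  have hnuσ : ∀ l : Fˣ, (nu l : F) = σ (l : F) := by
    intro l
    have := hemul l 1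
    rw [mul_one] at this
    simp [hσ, this, he0]
  have hσσ : ∀ b, σ (σ b) = b := by
    have h : ∀ b, e (e b) = (α : F) * β * b := by
      intro b
      have := congrFun (congrArg DFunLike.coe hww) ((0, b, 0) : V F)
      simp [Equiv.Perm.mul_apply, he] at this
      exact this
    intro b
    by_cases hb : σ b = 0
    · have hb' : b = 0 := by
        have := h b
        have heb : e b = 0 := by simpa [hσ, he0] using hb
        have h0 : e 0 = 0 := by simpa using he_add 0 0
        rw [heb, h0] at this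
        simpa [Units.ne_zero] using this.symm
      subst hb'
      have h0 : e 0 = 0 := by simpa using he_add 0 0
      simp [hσ, h0]
    have k1 := hemul (Units.mk0 (σ b) hb) (e 1)
    rw [hnuσ, Units.val_mk0, show σ b * e 1 = e b by simp [hσ, he0], h b, h 1, mul_one] at k1
    have hab : ((α : F) * β) ≠ 0 := by simp
    exact mul_right_cancel₀ hab (by linear_combination -k1)
  have hσmul : ∀ x y, σ (x * y) = σ x * σ y := by
    intro x y
    by_cases hx : x = 0
    · have h0 : e 0 = 0 := by simpa using he_add 0 0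
      simp [hσ, hx, h0]
    · have := hemul (Units.mk0 x hx) y
      rw [hnuσ, Units.val_mk0] at this
      simp [hσ, this]
      ring
  have hσneg : ∀ x, σ (-x) = -σ x := by
    intro x
    have h0 : e 0 = 0 := by simpa using he_add 0 0
    have := he_add x (-x)
    rw [add_neg_cancel, h0] at this
    simp [hσ, eq_neg_of_add_eq_zero_right this.symm, neg_div]
  have hσid : ∀ y, σ y = y := by
    intro y
    by_contra hy
    set d := y - σ y with hd'
    have hd0 : d ≠ 0 := sub_ne_zero.mpr (Ne.symm hy)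
    have hσd : σ d = -d := by
      have hadd : σ (y + -σ y) = σ y + σ (-σ y) := by simp [hσ, he_add, add_div]
      rw [hd', sub_eq_add_neg, hadd, hσneg, hσσ]
      ring
    obtain ⟨s, hs⟩ := sq_or_neg_sq H.card_mod d
    have hs0 : s ≠ 0 := by
      rintro rfl
      rcases hs with h | h <;> exact hd0 (by simpa [eq_comm] using h)
    have hss : σ s * σ s = -(s * s) := by
      rw [← hσmul]
      rcases hs with h | h <;> rw [h]
      · exact hσd
      · rw [hσneg, hσd]
    refine neg_one_ne_sq H.card_mod (σ s / s) ?_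
    field_simp
    linear_combination hss
  have hnu1 : ∀ l : Fˣ, nu l = l := fun l => Units.ext (by rw [hnuσ, hσid])
  have heb : ∀ b, e b = e 1 * b := by
    intro b
    have := hσid b
    simp only [hσ] at this
    rw [div_eq_iff he0] at this
    rw [this, mul_comm]
  have hwl' : ∀ l : Fˣ, w * symHom F (dM l 1) = hT l * w := by
    intro l
    have h1 : (w * w) * hT l = hT l * (w * w) := by
      rw [hww, hT_eq, ← map_mul, ← map_mul, dM_mul, dM_mul, mul_comm α, mul_comm β]
    calc w * symHom F (dM l 1) = w * (symHom F (dM (nu l) 1) * w) * w⁻¹ := by rw [hnu1]; group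
      _ = (w * w) * hT l * w⁻¹ := by rw [← hwl]; group
      _ = hT l * w := by rw [h1]; group
  choose f hf using fun a : F => mem_C0.mp (hwZ ▸ Set.mem_image_of_mem w (mem_Z0.mpr ⟨a, rfl⟩) :
    w (a, 0, 0) ∈ C0 F)
  choose g hg using fun c : F => mem_Z0.mp (hwC ▸ Set.mem_image_of_mem w (mem_C0.mpr ⟨c, rfl⟩) :
    w (0, 0, c) ∈ Z0 F)
  let fh : F →+ F := AddMonoidHom.mk' f fun a a' => by
    have := H.add w hw (a, 0, 0) (a', 0, 0)
    simp [hf] at this
    exact this
  let gh : F →+ F := AddMonoidHom.mk' g fun a a' => by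
    have := H.add w hw (0, 0, a) (0, 0, a')
    simp [hg] at this
    exact this
  have hflin : ∀ a, f a = f 1 * a := by
    have : fh = AddMonoidHom.mulLeft (f 1) := sq_span h2 fun x => by
      show f (x * x) = f 1 * (x * x)
      by_cases hx : x = 0
      · subst hx
        rw [mul_zero, mul_zero, show f 0 = 0 from _root_.map_zero fh]
      · have := congrFun (congrArg DFunLike.coe (hwl' (Units.mk0 x hx))) ((1, 0, 0) : V F)
        simp [Equiv.Perm.mul_apply, hf] at this
        rw [this]; ring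
    exact fun a => DFunLike.congr_fun this a
  have hglin : ∀ a, g a = g 1 * a := by
    have : gh = AddMonoidHom.mulLeft (g 1) := sq_span h2 fun x => by
      show g (x * x) = g 1 * (x * x)
      by_cases hx : x = 0
      · subst hx
        rw [mul_zero, mul_zero, show g 0 = 0 from _root_.map_zero gh]
      · have := congrFun (congrArg DFunLike.coe (hwl (Units.mk0 x hx))) ((0, 0, 1) : V F)
        simp [Equiv.Perm.mul_apply, hg, hnu1] at this
        rw [this]; ring
    exact fun a => DFunLike.congr_fun this a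
  have hwe : ∀ a b c : F, w (a, b, c) = (g 1 * c, e 1 * b, f 1 * a) := by
    intro a b c
    have hs : ((a, b, c) : V F) = (a, 0, 0) + (0, b, 0) + (0, 0, c) := by simp
    rw [hs, H.add w hw, H.add w hw, hf, he, hg, hflin, heb, hglin]
    simp
  have hf0 : f 1 ≠ 0 := by
    intro h
    have := hf 1
    rw [h] at this
    have := H.eq_zero_of_map hw this
    simp at this
  have hrel : e 1 * e 1 = g 1 * f 1 := by
    rcases hpts (w '' (sU 1 '' C0 F)) (H.isPt_image (H.isPt_image hC (H.s_mem 1)) hw) with h | ⟨t, h⟩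
    · have : w (sU 1 (0, 0, 1)) ∈ Z0 F := h ▸ ⟨_, ⟨_, mem_C0.mpr ⟨1, rfl⟩, rfl⟩, rfl⟩
      simp [hwe, Z0, hf0] at this
    · obtain ⟨v, hv, hv'⟩ : w (sU 1 (0, 0, 1)) ∈ sU t '' C0 F :=
        h ▸ ⟨_, ⟨_, mem_C0.mpr ⟨1, rfl⟩, rfl⟩, rfl⟩
      obtain ⟨c, rfl⟩ := mem_C0.mp hv
      simp [hwe] at hv'
      obtain ⟨k1, k2, k3⟩ := hv'
      rw [← k1, ← k2, ← k3]; ring
  obtain ⟨u, hu⟩ := sq_or_neg_sq H.card_mod (f 1)
  obtain ⟨δ, hδ, hfu⟩ : ∃ δ : F, (δ = 1 ∨ δ = -1) ∧ f 1 = δ * (u * u) := by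
    rcases hu with h | h
    · exact ⟨1, Or.inl rfl, by rw [h]; ring⟩
    · exact ⟨-1, Or.inr rfl, by rw [h]; ring⟩
  have hu0 : u ≠ 0 := fun h => hf0 (by rw [hfu, h]; ring)
  have hδ0 : δ ≠ 0 := fun h => hf0 (by rw [hfu, h]; ring)
  have hδ2 : δ * δ = 1 := by rcases hδ with rfl | rfl <;> ring
  set w' := symHom F (dM (Units.mk0 (-(δ * u) / e 1)
    (div_ne_zero (neg_ne_zero.mpr (mul_ne_zero hδ0 hu0)) he0))
    (Units.mk0 u⁻¹ (inv_ne_zero hu0))) * w with hw'
  have hw'm : w' ∈ Nb := mul_mem (hd _ _) hw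
  have hw'e : ∀ a b c : F, w' (a, b, c) = (δ * c, -(δ * b), δ * a) := by
    intro a b c
    simp only [hw', Equiv.Perm.mul_apply, hwe, dM_apply, Units.val_mk0, Prod.mk.injEq]
    refine ⟨?_, ?_, ?_⟩
    · field_simp
      linear_combination (-c) * hrel - c * g 1 * hfu
    · field_simp
    · field_simp
      rw [hfu]; ring
  have hw0 : symHom F wM ∈ Nb := by
    rcases hδ with rfl | rfl
    · convert hw'm using 1
      refine Equiv.ext fun v => ?_
      obtain ⟨a, b, c⟩ := v
      rw [hw'e, wM_apply]; simp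
    · exfalso
      set T := w' * sU 1 with hT'
      have hTm : T * T * T ∈ Nb := by
        have := mul_mem hw'm (H.s_mem 1)
        exact mul_mem (mul_mem this this) this
      have hTe : ∀ a b c : F, (T * T * T) (a, b, c) = (-a, -b, -c) := by
        intro a b c
        simp only [hT', Equiv.Perm.mul_apply, sU_apply, hw'e, Prod.mk.injEq]
        refine ⟨?_, ?_, ?_⟩ <;> ring
      obtain ⟨ν, l, he'⟩ := hX _ hTm
        (H.map_Z0 hTm one_ne_zero (a := 1) (by rw [hTe]; simp [Z0]))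
        (by
          refine Set.eq_of_subset_of_ncard_le ?_ (le_of_eq (Set.ncard_image_of_injective _ (T * T * T).injective).symm)
          rintro _ ⟨v, hv, rfl⟩
          obtain ⟨c, rfl⟩ := mem_C0.mp hv
          exact mem_C0.mpr ⟨-c, by rw [hTe]; simp⟩)
      have := congrFun (congrArg DFunLike.coe he') ((1, 0, 0) : V F)
      rw [hTe, dM_apply] at this
      simp at this
      exact neg_one_ne_sq H.card_mod (ν : F) this.symm
  refine le_antisymm ?_ (range_symHom_le Nb H.s_mem hd hw0)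
  intro x hx
  have hrange : ∀ y ∈ Nb, y '' Z0 F = Z0 F → y ∈ (symHom F).range := by
    intro y hy hyZ
    have hne : y '' C0 F ≠ Z0 F := fun h => hCne (Set.image_injective.mpr y.injective (h.trans hyZ.symm))
    obtain ⟨t, ht⟩ := (hpts _ (H.isPt_image hC hy)).resolve_left hne
    obtain ⟨ν, l, h⟩ := hX ((sU t)⁻¹ * y) (mul_mem (inv_mem (H.s_mem t)) hy)
      (by rw [image_mul, hyZ, sU_inv]; exact H.map_Z0 (H.s_mem _) one_ne_zero (a := 1) (by simp [Z0]))
      (by rw [image_mul, ht, inv_image])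
    exact ⟨uM t * dM ν l, by rw [map_mul, ← h, ← sU, mul_inv_cancel_left]⟩
  rcases hpts _ (H.isPt_image H.isPt_Z0 hx) with h | ⟨t, h⟩
  · exact hrange x hx h
  · have hm : (sU t * symHom F wM)⁻¹ * x ∈ Nb := mul_mem (inv_mem (mul_mem (H.s_mem t) hw0)) hx
    have hwM : symHom F wM '' Z0 F = C0 F := by
      ext ⟨a, b, c⟩
      simp only [Set.mem_image]
      constructor
      · rintro ⟨v, hv, e⟩
        obtain ⟨a', rfl⟩ := mem_Z0.mp hv
        rw [← e]
        exact mem_C0.mpr ⟨a', by simp⟩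
      · intro hv
        obtain ⟨c', e⟩ := mem_C0.mp hv
        exact ⟨(c', 0, 0), mem_Z0.mpr ⟨c', rfl⟩, by rw [e]; simp⟩
    have := hrange _ hm (by rw [image_mul, h, mul_inv_rev, image_mul, inv_image, ← hwM, inv_image])
    obtain ⟨A, hA'⟩ := this
    exact ⟨uM t * wM * A, by rw [map_mul, map_mul, hA', ← sU, mul_inv_cancel_left]⟩

end Hyp

end CfsgLib.PSpFourNormM
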