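import Cfsg.Agent.PSpFourNormM.Endgame

/-!
The group induced on `M` is `PGL₂ × C_{(q-1)/2}`.
-/

set_option autoImplicit false
set_option linter.unusedSectionVars false
set_option linter.style.haveILetI false

open scoped Classical

namespace CfsgLib.PSpFourNormM

variable {F : Type*} [Field F] [Fintype F]

/-- The change of coordinates fixing the base line. -/
def shift (f : F) : Equiv.Perm (V F) where
  toFun v := (v.1 - f * v.2.2, v.2.1, v.2.2)
  invFun v := (v.1 + f * v.2.2, v.2.1, v.2.2)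
  left_inv v := by obtain ⟨a, b, c⟩ := v; simp
  right_inv v := by obtain ⟨a, b, c⟩ := v; simp

@[simp] theorem shift_apply (f a b c : F) : shift f (a, b, c) = (a - f * c, b, c) := rfl

@[simp] theorem shift_symm_apply (f a b c : F) : (shift f).symm (a, b, c) = (a + f * c, b, c) := rfl

theorem shift_sU (f t : F) : shift f * sU t = sU t * shift f := Equiv.ext fun v => by
  obtain ⟨a, b, c⟩ := v
  simp [Equiv.Perm.mul_apply]
  ring

theorem shift_hT {f : F} {l : Fˣ} (h : f * ((l : F) * l - 1) = 0) :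
    shift f * hT l = hT l * shift f := Equiv.ext fun v => by
  obtain ⟨a, b, c⟩ := v
  simp only [Equiv.Perm.mul_apply, hT_apply, shift_apply, Prod.mk.injEq, and_true]
  linear_combination (-c) * h

namespace Hyp

variable {Nb : Subgroup (Equiv.Perm (V F))} {p : ℕ} (H : Hyp Nb p)
include H

theorem transport {f : F} (hf : ∀ l : Fˣ, f * ((l : F) * l - 1) = 0) :
    Hyp (Nb.map (MulAut.conj (shift f)).toMonoidHom) p := by
  have hcs : ∀ t : F, shift f * sU t * (shift f)⁻¹ = sU t := fun t => by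
    rw [shift_sU, mul_inv_cancel_right]
  have hch : ∀ l : Fˣ, shift f * hT l * (shift f)⁻¹ = hT l := fun l => by
    rw [shift_hT (hf l), mul_inv_cancel_right]
  have hfix : ∀ a : F, (shift f).symm (a, 0, 0) = (a, 0, 0) := fun a => by simp
  constructor
  · exact H.card_mod
  · exact H.prime
  · exact H.char
  · rintro _ ⟨g, hg, rfl⟩ u v
    have h1 : ∀ u v : V F, shift f (u + v) = shift f u + shift f v := by
      rintro ⟨a, b, c⟩ ⟨a', b', c'⟩
      simp; ring
    have h2 : ∀ u v : V F, (shift f).symm (u + v) = (shift f).symm u + (shift f).symm v := by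
      rintro ⟨a, b, c⟩ ⟨a', b', c'⟩
      simp; ring
    simp [Equiv.Perm.mul_apply, h2, H.add g hg, h1]
  · exact fun t => ⟨sU t, H.s_mem t, hcs t⟩
  · exact fun l => ⟨hT l, H.h_mem l, hch l⟩
  · rintro _ ⟨g, hg, rfl⟩ a ha h
    obtain ⟨t, l, rfl⟩ := H.stab g hg a ha (by
      simp [Equiv.Perm.mul_apply] at h
      have := congrArg (shift f).symm h
      simpa using this)
    refine ⟨t, l, ?_⟩
    show shift f * (sU t * hT l) * (shift f)⁻¹ = _
    rw [← mul_assoc, shift_sU, mul_assoc (sU t), mul_assoc, hch]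
  · intro h
    apply H.notrans
    intro a ha a' ha'
    obtain ⟨_, ⟨g, hg, rfl⟩, e⟩ := h a ha a' ha'
    refine ⟨g, hg, ?_⟩
    have := congrArg (shift f).symm e
    simpa [Equiv.Perm.mul_apply] using this
  · obtain ⟨g, hg, a, ha⟩ := H.move
    refine ⟨_, ⟨g, hg, rfl⟩, a, ?_⟩
    simp [Equiv.Perm.mul_apply]
    revert ha
    generalize g (a, 0, 0) = u
    obtain ⟨x, y, z⟩ := u
    simp
  · rintro _ ⟨x, hx, rfl⟩ hxo
    obtain ⟨g, hg, t, ht⟩ := H.sylow x hx (by
      have := MulEquiv.orderOf_eq (MulAut.conj (shift f)) x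
      exact this.symm.trans hxo)
    refine ⟨_, ⟨g, hg, rfl⟩, t, ?_⟩
    rw [← hcs t, ← ht]
    simp only [MulEquiv.coe_toMonoidHom, MulAut.conj_apply]
    group

theorem exists_shift_eq {n : ℕ} (hn : 1 ≤ n) (hF : Fintype.card F = p ^ n) :
    ∃ f : F, (∀ l : Fˣ, f * ((l : F) * l - 1) = 0) ∧
      Nb.map (MulAut.conj (shift f)).toMonoidHom = (symHom F).range := by
  obtain ⟨hcard, hone⟩ := H.pts_eq hn hF
  obtain ⟨P, hP⟩ := Set.ncard_eq_one.mp hone
  have hPm : P ∈ piSet' Nb := hP ▸ rfl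
  have hne : P.1 ≠ Z0 F := fun e => hPm.2 (Subtype.ext e)
  obtain ⟨f, b, hfP⟩ := H.exists_c P.2 hne 1
  obtain rfl : b = 0 := hPm.1 _ hfP
  have hfixP : ∀ l : Fˣ, hT l '' P.1 = P.1 := by
    intro l
    have hm : (⟨hT l, H.h_mem l⟩ : Nb) • P ∈ piSet' Nb := by
      refine ⟨inA_hT hPm.1 l, fun e => hne ?_⟩
      have h1 : hT l '' P.1 = Z0 F := congrArg Subtype.val e
      rw [← inv_image (hT l) P.1, h1, hT_inv]
      exact H.map_Z0 (H.h_mem _) one_ne_zero (a := 1) (by simp [Z0])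
    rw [hP] at hm
    exact congrArg Subtype.val hm
  have haxis : ∀ l : Fˣ, (l : F) * l ≠ 1 → ∀ v ∈ P.1, v.1 = 0 := by
    intro l hl v hv
    obtain ⟨a, b, c⟩ := v
    have hl2 := sub_ne_zero.mpr hl
    obtain ⟨a', b', hv'⟩ := H.exists_c P.2 hne (c / ((l : F) * l - 1))
    obtain rfl : b' = 0 := hPm.1 _ hv'
    have h2 : hT l (a', 0, c / ((l : F) * l - 1)) ∈ P.1 := hfixP l ▸ Set.mem_image_of_mem _ hv'
    have h4 := H.ext_c P.2 hne hv (H.pt_sub P.2 h2 hv')
      (by simp; field_simp; rw [mul_div_cancel_right₀]; rwa [pow_two])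
    rw [h4]; simp
  have hf : ∀ l : Fˣ, f * ((l : F) * l - 1) = 0 := by
    intro l
    by_cases hl : (l : F) * l = 1
    · simp [hl]
    · rw [show f = 0 from haxis l hl _ hfP, zero_mul]
  have hgraph : ∀ v ∈ P.1, v.1 = f * v.2.2 := by
    intro v hv
    by_cases hl : ∃ l : Fˣ, (l : F) * l ≠ 1
    · obtain ⟨l, hl⟩ := hl
      rw [haxis l hl v hv, show f = 0 from haxis l hl _ hfP, zero_mul]
    · push Not at hl
      obtain ⟨a, b, c⟩ := v
      obtain rfl : b = 0 := hPm.1 _ hv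
      by_cases hc : c = 0
      · subst hc
        have := H.c_zero P.2 hne hv rfl
        simp at this
        simp [this]
      rcases mul_self_eq_one_iff.mp (hl (Units.mk0 c hc)) with e | e
      · simp at e; subst e
        have := H.ext_c P.2 hne hv hfP rfl
        simp at this
        simp [this]
      · simp at e; subst e
        have := H.ext_c P.2 hne hv (H.pt_sub P.2 (H.pt_zero P.2) hfP) (by simp)
        simp at this
        simp [this]
  set Nb' := Nb.map (MulAut.conj (shift f)).toMonoidHom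
  have H' : Hyp Nb' p := H.transport hf
  have hC : IsPt Nb' (C0 F) := by
    obtain ⟨g, hg, hgP⟩ := id P.2
    refine ⟨shift f * g * (shift f)⁻¹, ⟨g, hg, rfl⟩, ?_⟩
    have hZ : ((shift f)⁻¹ : Equiv.Perm (V F)) '' Z0 F = Z0 F := by
      ext ⟨a, b, c⟩
      constructor
      · rintro ⟨u, hu, e⟩
        obtain ⟨x, rfl⟩ := mem_Z0.mp hu
        rw [← e]
        simp [Z0]
      · intro h
        obtain ⟨x, e⟩ := mem_Z0.mp h
        exact ⟨(x, 0, 0), mem_Z0.mpr ⟨x, rfl⟩, by rw [e]; simp⟩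
    rw [image_mul, hZ, image_mul, ← hgP]
    refine (Set.eq_of_subset_of_ncard_le ?_ ?_).symm
    · rintro _ ⟨⟨a, b, c⟩, hv, rfl⟩
      have h1 : a = f * c := hgraph _ hv
      have h2 : b = 0 := hPm.1 _ hv
      exact mem_C0.mpr ⟨c, by simp [h1, h2]⟩
    · rw [Set.ncard_image_of_injective _ (shift f).injective, hgP,
        Set.ncard_image_of_injective _ g.injective]
      refine le_of_eq ?_
      refine Set.ncard_congr (fun (v : V F) _ => ((v.2.2, (0 : F), (0 : F)) : V F)) ?_ ?_ ?_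
      · rintro ⟨x, y, z⟩ -; simp [Z0]
      · rintro ⟨x, y, z⟩ ⟨x', y', z'⟩ ⟨rfl, rfl⟩ ⟨rfl, rfl⟩ e; simp_all
      · intro v hv
        obtain ⟨x, rfl⟩ := mem_Z0.mp hv
        exact ⟨(0, 0, x), ⟨rfl, rfl⟩, rfl⟩
  exact ⟨f, hf, H'.endgame hC (H'.pts_eq hn hF).1⟩

/-- Outside the field of three elements the group is the image of `GL₂` on the nose. -/
theorem range_eq {n : ℕ} (hn : 1 ≤ n) (hF : Fintype.card F = p ^ n) {l : Fˣ}
    (hl : (l : F) * l ≠ 1) : Nb = (symHom F).range := by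
  obtain ⟨f, hf, h⟩ := H.exists_shift_eq hn hF
  obtain rfl : f = 0 := (mul_eq_zero.1 (hf l)).resolve_right (sub_ne_zero.2 hl)
  have h1 : shift (0 : F) = 1 := Equiv.ext fun v => by obtain ⟨a, b, c⟩ := v; simp
  rw [← h, h1, map_one]
  exact Nb.map_id.symm

theorem main {n : ℕ} (hn : 1 ≤ n) (hF : Fintype.card F = p ^ n) :
    Nonempty (Nb ≃* Matrix.ProjGenLinGroup (Fin 2) F ×
      Multiplicative (ZMod ((Fintype.card F - 1) / 2))) := by
  obtain ⟨f, -, h'⟩ := H.exists_shift_eq hn hF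
  obtain ⟨e⟩ := range_iso (F := F) H.card_mod
  exact ⟨((Nb.equivMapOfInjective _ (MulAut.conj (shift f)).injective).trans
    (MulEquiv.subgroupCongr h')).trans e⟩

end Hyp

end CfsgLib.PSpFourNormM
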