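import Cfsg.Agent.PSpFourNormM.Bridge
import Cfsg.Agent.PSpFourNormM.Linear
import Cfsg.Agent.Solvable.Gaschutz

/-!
The complement of the elementary subgroup in its normaliser.
-/

set_option autoImplicit false
set_option linter.unusedSectionVars false
set_option linter.style.haveILetI false
set_option maxHeartbeats 800000

open scoped Classical

namespace CfsgLib.PSpFourNormM

variable {F : Type*} [Field F] {G : Type*} [Group G]

namespace Frame

variable {C : Subgroup G} (Φ : Frame F C) {M : Subgroup G}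

theorem exists_action (hM : ∀ g, g ∈ M ↔ ∃ u, g = Φ.mM u) :
    ∃ ρ : ↥(Subgroup.normalizer (M : Set G)) →* Equiv.Perm (V F),
      ∀ g v, Φ.mM (ρ g v) = (g : G) * Φ.mM v * (g : G)⁻¹ := by
  have hex : ∀ (g : ↥(Subgroup.normalizer (M : Set G))) (v : V F),
      ∃ w, Φ.mM w = (g : G) * Φ.mM v * (g : G)⁻¹ := by
    intro g v
    obtain ⟨w, hw⟩ := (hM _).mp ((Subgroup.mem_normalizer_iff.mp g.2 _).mp ((hM _).mpr ⟨v, rfl⟩))
    exact ⟨w, hw.symm⟩
  choose r hr using hex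
  have hmul : ∀ g h v, r (g * h) v = r g (r h v) := by
    intro g h v
    apply Φ.mM_inj
    rw [hr, hr, hr]
    push_cast
    group
  have hone : ∀ v, r 1 v = v := by
    intro v
    apply Φ.mM_inj
    rw [hr]
    simp
  exact ⟨{ toFun := fun g => ⟨r g, r g⁻¹, fun v => by rw [← hmul, inv_mul_cancel, hone],
              fun v => by rw [← hmul, mul_inv_cancel, hone]⟩
           map_one' := Equiv.ext hone
           map_mul' := fun g h => Equiv.ext (hmul g h) }, hr⟩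

end Frame

theorem exists_action_hyp [Finite G] [Fintype F] {p n : ℕ} [Fact p.Prime] (hn : 1 ≤ n)
    (hp : p ≠ 2) (hq : p ^ n % 4 = 3) (hF : Fintype.card F = p ^ n)
    (α : G) (Φ : Frame F (Subgroup.centralizer ({α} : Set G)))
    (hb : ∀ z ∈ Subgroup.centralizer ({α} : Set G), z ≠ 1 →
      (∀ c ∈ Subgroup.centralizer ({α} : Set G), c * z = z * c) →
      Subgroup.centralizer ({z} : Set G) = Subgroup.centralizer ({α} : Set G))
    (hc : ∃ (u v : G) (Pu Pv : Sylow p G), orderOf u = p ∧ orderOf v = p ∧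
      u ∈ (Pu : Subgroup G) ∧ (∀ y ∈ (Pu : Subgroup G), y * u = u * y) ∧
      v ∈ (Pv : Subgroup G) ∧ (∀ y ∈ (Pv : Subgroup G), y * v = v * y) ∧ ∀ g : G, g * u * g⁻¹ ≠ v)
    (P : Sylow p G) (hP : ∀ g, g ∈ (P : Subgroup G) ↔ ∃ (u : V F) (t : F), g = Φ.mM u * Φ.sS t)
    (M : Subgroup G) (hM : ∀ g, g ∈ M ↔ ∃ u, g = Φ.mM u) (hα : ∃ u, α = Φ.mM u)
    (hnc : ∃ Q R : Sylow p ↥(Subgroup.normalizer (M : Set G)), Q ≠ R) :
    ∃ ρ : ↥(Subgroup.normalizer (M : Set G)) →* Equiv.Perm (V F),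
      (∀ g v, Φ.mM (ρ g v) = (g : G) * Φ.mM v * (g : G)⁻¹) ∧ Hyp ρ.range p := by
  have hmod : Fintype.card F % 4 = 3 := by rw [hF]; exact hq
  have h2 : (2 : F) ≠ 0 := two_ne hmod
  haveI hchar : CharP F p := charP_of_card_eq_prime_pow hF
  set N := Subgroup.normalizer (M : Set G)
  obtain ⟨ρ, hρ⟩ : ∃ ρ : ↥N →* Equiv.Perm (V F),
      ∀ g v, Φ.mM (ρ g v) = (g : G) * Φ.mM v * (g : G)⁻¹ := Φ.exists_action hM
  have hCM : ∀ g : G, (∀ v, g * Φ.mM v = Φ.mM v * g) → ∃ u, g = Φ.mM u := by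
    intro g hg
    obtain ⟨u, hu⟩ := hα
    refine Φ.eq_mM_of_comm h2 (Subgroup.mem_centralizer_singleton_iff.mpr ?_) hg
    rw [hu]
    exact hg u
  have hconj_act : ∀ (g : G) (σ : Equiv.Perm (V F)), (∀ v, g * Φ.mM v = Φ.mM (σ v) * g) →
      ∃ hg : g ∈ N, ρ ⟨g, hg⟩ = σ := by
    intro g σ hσ
    have hg : g ∈ N := by
      refine Subgroup.mem_normalizer_iff.mpr fun x => ⟨fun hx => ?_, fun hx => ?_⟩
      · obtain ⟨v, rfl⟩ := (hM x).mp hx
        exact (hM _).mpr ⟨σ v, by rw [hσ, mul_inv_cancel_right]⟩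
      · obtain ⟨w, hw⟩ := (hM _).mp hx
        refine (hM x).mpr ⟨σ.symm w, ?_⟩
        have h := hσ (σ.symm w)
        rw [Equiv.apply_symm_apply, ← hw] at h
        exact (mul_left_cancel (a := g) (by rw [h]; group)).symm
    refine ⟨hg, Equiv.ext fun v => Φ.mM_inj ?_⟩
    rw [hρ, hσ, mul_inv_cancel_right]
  have hmact : ∀ u, ∀ v, Φ.mM u * Φ.mM v = Φ.mM ((1 : Equiv.Perm (V F)) v) * Φ.mM u := fun u v => by
    rw [← Φ.mM_add, ← Φ.mM_add, add_comm]; rfl
  have hker : ∀ g : N, ρ g = 1 ↔ (g : G) ∈ M := by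
    intro g
    constructor
    · intro h
      refine (hM _).mpr (hCM _ fun v => ?_)
      have e := hρ g v
      rw [h] at e
      simp only [Equiv.Perm.one_apply] at e
      conv_rhs => rw [e]
      group
    · intro h
      obtain ⟨u, hu⟩ := (hM _).mp h
      obtain ⟨hg, e⟩ := hconj_act (Φ.mM u) 1 (hmact u)
      rw [← e]
      exact congrArg ρ (Subtype.ext hu)
  have hP_act : ∀ u t, ∃ hg : Φ.mM u * Φ.sS t ∈ N, ρ ⟨_, hg⟩ = sU t := by
    intro u t
    refine hconj_act _ _ fun v => ?_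
    rw [mul_assoc, Φ.sS_mM, ← mul_assoc, hmact u (sU t v), Equiv.Perm.one_apply, mul_assoc]
  have hPN : (P : Subgroup G) ≤ N := fun g hg => by
    obtain ⟨u, t, rfl⟩ := (hP g).mp hg
    exact (hP_act u t).1
  have hS_act : ∀ t, ∃ hg : Φ.sS t ∈ N, ρ ⟨_, hg⟩ = sU t := fun t =>
    hconj_act _ _ fun v => Φ.sS_mM t v
  have hH_act : ∀ l, ∃ hg : Φ.hH l ∈ N, ρ ⟨_, hg⟩ = hT l := fun l =>
    hconj_act _ _ fun v => Φ.hH_mM l v
  have hNC : ∀ g : N, (g : G) ∈ Subgroup.centralizer ({α} : Set G) → ∃ (u : V F) (t : F) (l : Fˣ),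
      (g : G) = Φ.mM u * Φ.sS t * Φ.hH l ∧ ρ g = sU t * hT l := by
    intro g hg
    obtain ⟨u, t, l, e⟩ := Φ.normalizer_form hg
      ⟨((ρ g (0, 0, 1)).2.1, 0, (ρ g (0, 0, 1)).1), (ρ g (0, 0, 1)).2.2, by
        have e := hρ g (0, 0, 1)
        simp only [Frame.mM] at e
        rw [e]; rfl⟩
    refine ⟨u, t, l, e, ?_⟩
    obtain ⟨h', e'⟩ := hconj_act (g : G) (sU t * hT l) (fun v => by
      rw [e, mul_assoc (Φ.mM u * Φ.sS t), Φ.hH_mM, ← mul_assoc, mul_assoc (Φ.mM u), Φ.sS_mM,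
        ← mul_assoc, hmact u, Equiv.Perm.one_apply, Equiv.Perm.mul_apply]
      simp only [mul_assoc])
    exact e' ▸ rfl
  have hzmem : ∀ a : F, Φ.mM (a, 0, 0) ∈ Subgroup.centralizer ({α} : Set G) ∧ ∀ c ∈ Subgroup.centralizer ({α} : Set G), c * Φ.mM (a, 0, 0) = Φ.mM (a, 0, 0) * c :=
    fun a => ⟨Φ.mM_mem _, fun c hc => Φ.central_mM a c hc⟩
  have hzne : ∀ a : F, a ≠ 0 → Φ.mM (a, 0, 0) ≠ 1 := by
    intro a ha e
    rw [← Φ.mM_zero] at e
    exact ha (congrArg Prod.fst (Φ.mM_inj e))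
  have hstab : ∀ g : N, ∀ a : F, a ≠ 0 → ρ g (a, 0, 0) = (a, 0, 0) →
      (g : G) ∈ Subgroup.centralizer ({α} : Set G) := by
    intro g a ha h
    show (g : G) ∈ Subgroup.centralizer ({α} : Set G)
    rw [← hb _ (hzmem a).1 (hzne a ha) (hzmem a).2, Subgroup.mem_centralizer_singleton_iff]
    have e := hρ g (a, 0, 0)
    rw [h] at e
    conv_rhs => rw [e]
    group
  have hPact' : ∀ g : N, (g : G) ∈ (P : Subgroup G) → ∃ t, ρ g = sU t := by
    intro g hg
    obtain ⟨u, t, e⟩ := (hP _).mp hg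
    obtain ⟨h', e'⟩ := hP_act u t
    exact ⟨t, e' ▸ congrArg ρ (Subtype.ext e)⟩
  -- elements central in a Sylow subgroup
  have hpc : ∀ (u : G) (Pu : Sylow p G), orderOf u = p → u ∈ (Pu : Subgroup G) →
      (∀ y ∈ (Pu : Subgroup G), y * u = u * y) →
      ∃ (g : G) (a : F), a ≠ 0 ∧ g * u * g⁻¹ = Φ.mM (a, 0, 0) := by
    intro u Pu hu huP huc
    obtain ⟨g, hg⟩ := MulAction.exists_smul_eq G Pu P
    have hmem : ∀ z, z ∈ (P : Subgroup G) ↔ g⁻¹ * z * g ∈ (Pu : Subgroup G) := by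
      intro z
      rw [← hg, Sylow.smul_def, Sylow.pointwise_smul_def, Subgroup.mem_pointwise_smul_iff_inv_smul_mem]
      simp [MulAut.smul_def, MulAut.inv_def]
    set w := g * u * g⁻¹ with hw
    have hwP : w ∈ (P : Subgroup G) := by
      rw [hmem, show g⁻¹ * w * g = u by rw [hw]; group]; exact huP
    have hwc : ∀ z ∈ (P : Subgroup G), z * w = w * z := by
      intro z hz
      have h := huc _ ((hmem z).mp hz)
      calc z * w = g * ((g⁻¹ * z * g) * u) * g⁻¹ := by rw [hw]; group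
        _ = g * (u * (g⁻¹ * z * g)) * g⁻¹ := by rw [h]
        _ = w * z := by rw [hw]; group
    obtain ⟨⟨a, b, c⟩, hwu⟩ := hCM w fun v =>
      (hwc _ ((hP _).mpr ⟨v, 0, by rw [Φ.sS_zero, mul_one]⟩)).symm
    have hfix : sU (1 : F) (a, b, c) = (a, b, c) := by
      apply Φ.mM_inj
      have h := hwc _ ((hP _).mpr ⟨0, 1, by rw [Φ.mM_zero, one_mul]⟩)
      rw [hwu, Φ.sS_mM] at h
      exact mul_right_cancel h
    simp only [sU_apply, one_mul, mul_one, Prod.mk.injEq, and_true] at hfix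
    obtain ⟨h1, h3⟩ := hfix
    have hc0 : c = 0 := by linear_combination h3
    subst hc0
    have hb0 : b = 0 := mul_left_cancel₀ h2 (by linear_combination h1)
    subst hb0
    refine ⟨g, a, ?_, hwu⟩
    rintro rfl
    have h1 : w = 1 := by rw [hwu]; exact Φ.mM_zero
    have : u = 1 := by
      calc u = g⁻¹ * w * g := by rw [hw]; group
        _ = 1 := by rw [h1]; group
    rw [this, orderOf_one] at hu
    exact (Fact.out : p.Prime).one_lt.ne hu
  have hnormal : ∀ g : N, (∀ a : F, (ρ g (a, 0, 0)).2 = 0) → ∀ x : N, (x : G) ∈ (P : Subgroup G) →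
      ((g * x * g⁻¹ : N) : G) ∈ (P : Subgroup G) := by
    intro g hg x hx
    obtain ⟨t, hxt⟩ := hPact' x hx
    have hfix : ρ (g * x * g⁻¹) (1, 0, 0) = (1, 0, 0) := by
      -- preimage of the base point
      let φ : F → F := fun a => (ρ g (a, 0, 0)).1
      have hφ : Function.Injective φ := fun a a' e => by
        have : ρ g (a, 0, 0) = ρ g (a', 0, 0) := Prod.ext e (by rw [hg, hg])
        simpa using (ρ g).injective this
      obtain ⟨a, ha⟩ := Finite.injective_iff_surjective.mp hφ 1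
      have he : ρ g (a, 0, 0) = (1, 0, 0) := Prod.ext ha (hg a)
      rw [map_mul, map_mul, map_inv, hxt, Equiv.Perm.mul_apply, Equiv.Perm.mul_apply,
        Equiv.Perm.inv_def, ← he, Equiv.symm_apply_apply]
      simp
    obtain ⟨u, t', l, e, hr⟩ := hNC _ (hstab _ 1 one_ne_zero hfix)
    have hpow : ρ (g * x * g⁻¹) ^ p = 1 := by
      rw [map_mul, map_mul, map_inv, conj_pow, hxt, sU_pow, CharP.cast_eq_zero, zero_mul, sU_zero]
      group
    rw [hr] at hpow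
    have hk : ∀ (k : ℕ), ∃ s', (sU t' * hT l) ^ k = sU s' * hT (l ^ k) := by
      intro k
      induction k with
      | zero => exact ⟨0, by simp [sU_zero, hT_one]⟩
      | succ k ih =>
        obtain ⟨s', e⟩ := ih
        exact ⟨s' + t' * (((l ^ k)⁻¹ : Fˣ) : F), by rw [pow_succ, e, sh_mul, pow_succ]⟩
    obtain ⟨s', es⟩ := hk p
    rw [hpow] at es
    obtain ⟨-, hlp⟩ := sh_inj h2 ((show (sU (0 : F) * hT 1) = 1 by simp [sU_zero, hT_one]).trans es)
    have hl : l = 1 := by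
      refine Units.ext (sub_eq_zero.mp (eq_zero_of_pow_eq_zero (n := p) ?_))
      rw [Units.val_one, sub_pow_char, one_pow, ← Units.val_pow_eq_pow_val, ← hlp, Units.val_one, sub_self]
    rw [hl, Φ.hH_one, mul_one] at e
    exact (hP _).mpr ⟨u, t', e⟩
  -- the hypotheses on the image
  have H : Hyp ρ.range p := by
    constructor
    · exact hmod
    · exact Fact.out
    · exact hchar
    · rintro _ ⟨g, rfl⟩ u v
      apply Φ.mM_inj
      rw [hρ, Φ.mM_add, Φ.mM_add, hρ, hρ]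
      group
    · exact fun t => ⟨_, (hS_act t).2⟩
    · exact fun l => ⟨_, (hH_act l).2⟩
    · rintro _ ⟨g, rfl⟩ a ha h
      obtain ⟨u, t, l, -, hr⟩ := hNC g (hstab g a ha h)
      exact ⟨t, l, hr⟩
    · intro hall
      obtain ⟨u, v, Pu, Pv, hu, hv, huP, huc, hvP, hvc, hne⟩ := hc
      obtain ⟨g1, a1, ha1, e1⟩ := hpc u Pu hu huP huc
      obtain ⟨g2, a2, ha2, e2⟩ := hpc v Pv hv hvP hvc
      obtain ⟨_, ⟨g, rfl⟩, hg⟩ := hall a1 ha1 a2 ha2
      apply hne (g2⁻¹ * (g : G) * g1)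
      have h := hρ g (a1, 0, 0)
      rw [hg, ← e1, ← e2] at h
      calc g2⁻¹ * (g : G) * g1 * u * (g2⁻¹ * (g : G) * g1)⁻¹
          = g2⁻¹ * ((g : G) * (g1 * u * g1⁻¹) * (g : G)⁻¹) * g2 := by group
        _ = v := by rw [← h]; group
    · by_contra hmove
      obtain ⟨Q, R, hQR⟩ := hnc
      apply hQR
      haveI : ((P.subtype hPN : Sylow p N) : Subgroup N).Normal := ⟨fun x hx g => by
        rw [Sylow.coe_subtype, Subgroup.mem_subgroupOf] at hx ⊢
        refine hnormal g (fun a => ?_) x hx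
        by_contra h
        exact hmove ⟨ρ g, ⟨g, rfl⟩, a, h⟩⟩
      letI := Sylow.unique_of_normal (P.subtype hPN) inferInstance
      exact Subsingleton.elim _ _
    · rintro x hx hxo
      let P' : Sylow p ρ.range := (P.subtype hPN).mapSurjective ρ.rangeRestrict_surjective
      have hpz : IsPGroup p (Subgroup.zpowers (⟨x, hx⟩ : ρ.range)) := by
        refine IsPGroup.of_card (n := 1) ?_
        rw [Nat.card_zpowers, Subgroup.orderOf_mk, hxo, pow_one]
      obtain ⟨Q, hQ⟩ := hpz.exists_le_sylow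
      obtain ⟨g, hg⟩ := MulAction.exists_smul_eq ρ.range Q P'
      have hm : g * ⟨x, hx⟩ * g⁻¹ ∈ (P' : Subgroup ρ.range) := by
        rw [← hg, Sylow.smul_def, Sylow.pointwise_smul_def]
        exact Subgroup.smul_mem_pointwise_smul _ (MulAut.conj g) _ (hQ (Subgroup.mem_zpowers _))
      obtain ⟨y, hy, hye⟩ := hm
      obtain ⟨t, ht⟩ := hPact' y (Subgroup.mem_subgroupOf.mp hy)
      refine ⟨g.1, g.2, t, ?_⟩
      rw [← ht]
      exact (congrArg Subtype.val hye).symm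
  exact ⟨ρ, hρ, H⟩

theorem normalizer_structure [Finite G] [Fintype F] {p n : ℕ} [Fact p.Prime] (hn : 1 ≤ n)
    (hp : p ≠ 2) (hq : p ^ n % 4 = 3) (hF : Fintype.card F = p ^ n)
    (α : G) (Φ : Frame F (Subgroup.centralizer ({α} : Set G)))
    (hb : ∀ z ∈ Subgroup.centralizer ({α} : Set G), z ≠ 1 →
      (∀ c ∈ Subgroup.centralizer ({α} : Set G), c * z = z * c) →
      Subgroup.centralizer ({z} : Set G) = Subgroup.centralizer ({α} : Set G))
    (hc : ∃ (u v : G) (Pu Pv : Sylow p G), orderOf u = p ∧ orderOf v = p ∧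
      u ∈ (Pu : Subgroup G) ∧ (∀ y ∈ (Pu : Subgroup G), y * u = u * y) ∧
      v ∈ (Pv : Subgroup G) ∧ (∀ y ∈ (Pv : Subgroup G), y * v = v * y) ∧ ∀ g : G, g * u * g⁻¹ ≠ v)
    (P : Sylow p G) (hP : ∀ g, g ∈ (P : Subgroup G) ↔ ∃ (u : V F) (t : F), g = Φ.mM u * Φ.sS t)
    (M : Subgroup G) (hM : ∀ g, g ∈ M ↔ ∃ u, g = Φ.mM u) (hα : ∃ u, α = Φ.mM u)
    (hnc : ∃ Q R : Sylow p ↥(Subgroup.normalizer (M : Set G)), Q ≠ R) :
    ∃ J : Subgroup G, J ≤ Subgroup.normalizer (M : Set G) ∧ M ⊔ J = Subgroup.normalizer (M : Set G) ∧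
      M ⊓ J = ⊥ ∧
      Nonempty (↥J ≃* (Matrix.ProjGenLinGroup (Fin 2) F × Multiplicative (ZMod ((p ^ n - 1) / 2)))) := by
  have hmod : Fintype.card F % 4 = 3 := by rw [hF]; exact hq
  have h2 : (2 : F) ≠ 0 := two_ne hmod
  haveI hchar : CharP F p := charP_of_card_eq_prime_pow hF
  set N := Subgroup.normalizer (M : Set G)
  obtain ⟨ρ, hρ, H⟩ := exists_action_hyp hn hp hq hF α Φ hb hc P hP M hM hα hnc
  have hCM : ∀ g : G, (∀ v, g * Φ.mM v = Φ.mM v * g) → ∃ u, g = Φ.mM u := by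
    intro g hg
    obtain ⟨u, hu⟩ := hα
    refine Φ.eq_mM_of_comm h2 (Subgroup.mem_centralizer_singleton_iff.mpr ?_) hg
    rw [hu]
    exact hg u
  have hconj_act : ∀ (g : G) (σ : Equiv.Perm (V F)), (∀ v, g * Φ.mM v = Φ.mM (σ v) * g) →
      ∃ hg : g ∈ N, ρ ⟨g, hg⟩ = σ := by
    intro g σ hσ
    have hg : g ∈ N := by
      refine Subgroup.mem_normalizer_iff.mpr fun x => ⟨fun hx => ?_, fun hx => ?_⟩
      · obtain ⟨v, rfl⟩ := (hM x).mp hx
        exact (hM _).mpr ⟨σ v, by rw [hσ, mul_inv_cancel_right]⟩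
      · obtain ⟨w, hw⟩ := (hM _).mp hx
        refine (hM x).mpr ⟨σ.symm w, ?_⟩
        have h := hσ (σ.symm w)
        rw [Equiv.apply_symm_apply, ← hw] at h
        exact (mul_left_cancel (a := g) (by rw [h]; group)).symm
    refine ⟨hg, Equiv.ext fun v => Φ.mM_inj ?_⟩
    rw [hρ, hσ, mul_inv_cancel_right]
  have hmact : ∀ u, ∀ v, Φ.mM u * Φ.mM v = Φ.mM ((1 : Equiv.Perm (V F)) v) * Φ.mM u := fun u v => by
    rw [← Φ.mM_add, ← Φ.mM_add, add_comm]; rfl
  have hker : ∀ g : N, ρ g = 1 ↔ (g : G) ∈ M := by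
    intro g
    constructor
    · intro h
      refine (hM _).mpr (hCM _ fun v => ?_)
      have e := hρ g v
      rw [h] at e
      simp only [Equiv.Perm.one_apply] at e
      conv_rhs => rw [e]
      group
    · intro h
      obtain ⟨u, hu⟩ := (hM _).mp h
      obtain ⟨hg, e⟩ := hconj_act (Φ.mM u) 1 (hmact u)
      rw [← e]
      exact congrArg ρ (Subtype.ext hu)
  have hP_act : ∀ u t, ∃ hg : Φ.mM u * Φ.sS t ∈ N, ρ ⟨_, hg⟩ = sU t := by
    intro u t
    refine hconj_act _ _ fun v => ?_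
    rw [mul_assoc, Φ.sS_mM, ← mul_assoc, hmact u (sU t v), Equiv.Perm.one_apply, mul_assoc]
  have hPN : (P : Subgroup G) ≤ N := fun g hg => by
    obtain ⟨u, t, rfl⟩ := (hP g).mp hg
    exact (hP_act u t).1
  have hS_act : ∀ t, ∃ hg : Φ.sS t ∈ N, ρ ⟨_, hg⟩ = sU t := fun t =>
    hconj_act _ _ fun v => Φ.sS_mM t v
  have hPact' : ∀ g : N, (g : G) ∈ (P : Subgroup G) → ∃ t, ρ g = sU t := by
    intro g hg
    obtain ⟨u, t, e⟩ := (hP _).mp hg
    obtain ⟨h', e'⟩ := hP_act u t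
    exact ⟨t, e' ▸ congrArg ρ (Subtype.ext e)⟩
  obtain ⟨iso⟩ := H.main hn hF
  -- a complement
  let K : Subgroup N := M.subgroupOf N
  let U : Subgroup N := (P.subtype hPN : Sylow p N)
  haveI hKn : K.Normal := by
    have : K = ρ.ker := by
      ext g
      rw [MonoidHom.mem_ker, hker, Subgroup.mem_subgroupOf]
    rw [this]; infer_instance
  haveI : IsMulCommutative K := ⟨⟨fun a b => by
    obtain ⟨u, hu⟩ := (hM _).mp (Subgroup.mem_subgroupOf.mp a.2)
    obtain ⟨v, hv⟩ := (hM _).mp (Subgroup.mem_subgroupOf.mp b.2)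
    refine Subtype.ext (Subtype.ext ?_)
    show (a.1.1 * b.1.1 : G) = b.1.1 * a.1.1
    rw [hu, hv, ← Φ.mM_add, ← Φ.mM_add, add_comm]⟩⟩
  have hMP : ∀ g ∈ M, g ∈ (P : Subgroup G) := fun g hg => by
    obtain ⟨u, rfl⟩ := (hM g).mp hg
    exact (hP _).mpr ⟨u, 0, by rw [Φ.sS_zero, mul_one]⟩
  let A : Subgroup N :=
    { carrier := {g | ∃ t, (g : G) = Φ.sS t}
      one_mem' := ⟨0, by rw [Φ.sS_zero]; rfl⟩
      mul_mem' := by
        rintro a b ⟨s, hs⟩ ⟨t, ht⟩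
        exact ⟨s + t, by rw [Φ.sS_add, ← hs, ← ht]; rfl⟩
      inv_mem' := by
        rintro a ⟨s, hs⟩
        refine ⟨-s, ?_⟩
        rw [Subgroup.coe_inv, hs, inv_eq_iff_mul_eq_one, ← Φ.sS_add, add_neg_cancel, Φ.sS_zero] }
  have hKU : K ≤ U := fun g hg => by
    rw [show U = (P : Subgroup G).subgroupOf N from Sylow.coe_subtype _ _]
    exact hMP _ hg
  have hAU : A ≤ U := fun g ⟨t, ht⟩ => by
    rw [show U = (P : Subgroup G).subgroupOf N from Sylow.coe_subtype _ _, Subgroup.mem_subgroupOf, ht]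
    exact (hP _).mpr ⟨0, t, by rw [Φ.mM_zero, one_mul]⟩
  have hAK : A ⊓ K = ⊥ := by
    rw [Subgroup.eq_bot_iff_forall]
    rintro g ⟨⟨t, ht⟩, hgK⟩
    obtain ⟨u, hu⟩ := (hM _).mp (Subgroup.mem_subgroupOf.mp hgK)
    have := (Φ.pSub_inj (u := 0) (u' := u) (t := t) (t' := 0)
      (by rw [Φ.mM_zero, Φ.sS_zero, one_mul, mul_one, ← ht, hu])).2
    subst this
    refine Subtype.ext ?_
    rw [ht, Φ.sS_zero]; rfl
  have hKA : K ⊔ A = U := by
    refine le_antisymm (sup_le hKU hAU) fun g hg => ?_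
    rw [show U = (P : Subgroup G).subgroupOf N from Sylow.coe_subtype _ _, Subgroup.mem_subgroupOf] at hg
    obtain ⟨u, t, e⟩ := (hP _).mp hg
    obtain ⟨hs, -⟩ := hS_act t
    rw [Subgroup.mem_sup_of_normal_left]
    refine ⟨g * ⟨Φ.sS t, hs⟩⁻¹, (hM _).mpr ⟨u, ?_⟩, ⟨Φ.sS t, hs⟩, ⟨t, rfl⟩, by group⟩
    show (g : G) * (Φ.sS t)⁻¹ = Φ.mM u
    rw [e, mul_inv_cancel_right]
  have hcop : (Nat.card K).Coprime U.index := by
    obtain ⟨k, hk⟩ := IsPGroup.iff_card.mp (((P.subtype hPN : Sylow p N).isPGroup').to_le hKU)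
    rw [hk]
    exact (((Fact.out : p.Prime).coprime_iff_not_dvd).mpr (Sylow.not_dvd_index _)).pow_left k
  obtain ⟨J', hJ'⟩ := CfsgLib.Gaschutz.exists_complement (K := K) hKU hcop A hAU hAK hKA
  let θ : J' →* ρ.range := ρ.rangeRestrict.comp J'.subtype
  have hθ : Function.Bijective θ := by
    refine ⟨(injective_iff_map_eq_one θ).mpr fun x hx => ?_, ?_⟩
    · have h1 : ρ x.1 = 1 := congrArg Subtype.val hx
      have h2 : x.1 ∈ K ⊓ J' := ⟨(hker _).mp h1, x.2⟩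
      rw [hJ'.disjoint.eq_bot, Subgroup.mem_bot] at h2
      exact Subtype.ext h2
    · rintro ⟨_, g, rfl⟩
      have hg : g ∈ K ⊔ J' := hJ'.sup_eq_top ▸ Subgroup.mem_top g
      obtain ⟨k, hk, j, hj, rfl⟩ := Subgroup.mem_sup_of_normal_left.mp hg
      refine ⟨⟨j, hj⟩, Subtype.ext ?_⟩
      show ρ j = ρ (k * j)
      rw [map_mul, (hker k).mpr hk, one_mul]
  have hKmap : K.map N.subtype = M := by
    rw [Subgroup.subgroupOf_map_subtype, inf_eq_left]
    intro g hg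
    obtain ⟨u, rfl⟩ := (hM g).mp hg
    exact (hconj_act _ _ (hmact u)).1
  refine ⟨J'.map N.subtype, Subgroup.map_subtype_le _, ?_, ?_, ?_⟩
  · rw [← hKmap, ← Subgroup.map_sup, hJ'.sup_eq_top, ← MonoidHom.range_eq_map, Subgroup.range_subtype]
  · rw [← hKmap, ← Subgroup.map_inf _ _ _ N.subtype_injective, hJ'.disjoint.eq_bot, Subgroup.map_bot]
  · rw [← hF]
    exact ⟨((J'.equivMapOfInjective _ N.subtype_injective).symm.trans
      (MulEquiv.ofBijective θ hθ)).trans iso⟩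

end CfsgLib.PSpFourNormM
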