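import Cfsg.Agent.Fusion.PSpSylow
import Cfsg.Agent.PSpFourThreeCent.Model

/-!
The centraliser of a `p`-central element of `PSp₄(q)`, `q` odd, in parameters `(F² × F) × SL₂`.
-/

set_option autoImplicit false
set_option linter.unusedSectionVars false
set_option linter.style.haveILetI false

open Matrix

namespace CfsgLib.PSpFourNormM

open CfsgLib.PSpFourThree CfsgLib.Symp CfsgLib.AutPSp CfsgLib.Fusion.PSpChar

variable {F : Type*} [Field F]

local notation "Sp" => Matrix.symplecticGroup (Fin 2) F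
local notation "π" => (QuotientGroup.mk' (Subgroup.center (Matrix.symplecticGroup (Fin 2) F)))

/-- The product of parameters. -/
def vmul (v : F × F × F) (A : Matrix.SpecialLinearGroup (Fin 2) F) (v' : F × F × F) : F × F × F :=
  (v.1 + (A.1 0 0 * v'.1 + A.1 0 1 * v'.2.1),
   v.2.1 + (A.1 1 0 * v'.1 + A.1 1 1 * v'.2.1),
   v.2.2 + v'.2.2 + (v.1 * (A.1 1 0 * v'.1 + A.1 1 1 * v'.2.1) - v.2.1 * (A.1 0 0 * v'.1 + A.1 0 1 * v'.2.1)))

/-- The lift. -/
def Wm (v : F × F × F) (A : Matrix.SpecialLinearGroup (Fin 2) F) : Sp :=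
  ⟨W v.1 v.2.1 v.2.2 (A.1 0 0) (A.1 0 1) (A.1 1 0) (A.1 1 1),
    W_symp _ _ _ _ _ _ _ (by have := A.2; rw [Matrix.det_fin_two] at this; exact this)⟩

theorem Wm_mul (v v' : F × F × F) (A A' : Matrix.SpecialLinearGroup (Fin 2) F) :
    Wm v A * Wm v' A' = Wm (vmul v A v') (A * A') := by
  refine Subtype.ext ?_
  show W _ _ _ _ _ _ _ * W _ _ _ _ _ _ _ = W _ _ _ _ _ _ _
  rw [W_mul _ _ _ _ _ _ _ _ _ _ _ _ _ _ (by have := A.2; rw [Matrix.det_fin_two] at this; exact this)]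
  congr 1 <;> simp [vmul, Matrix.SpecialLinearGroup.coe_mul, Matrix.mul_apply, Fin.sum_univ_two]

theorem Wm_inj {v v' : F × F × F} {A A' : Matrix.SpecialLinearGroup (Fin 2) F} (h2 : (2 : F) ≠ 0)
    (h : π (Wm v A) = π (Wm v' A')) : v = v' ∧ A = A' := by
  set z := (Wm v' A')⁻¹ * Wm v A with hz
  have hzc : z ∈ Subgroup.center Sp := QuotientGroup.eq.mp h.symm
  have hx : (Wm v A).1 = (Wm v' A').1 * z.1 := congrArg Subtype.val (mul_inv_cancel_left _ _).symm
  obtain ⟨e, he, hW⟩ : ∃ e : F, (e = 1 ∨ e = -1) ∧ (Wm v A).1 = e • (Wm v' A').1 := by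
    rcases mem_center_iff.mp hzc with k | k
    · exact ⟨1, Or.inl rfl, by rw [hx, k, mul_one, one_smul]⟩
    · exact ⟨-1, Or.inr rfl, by rw [hx, k]; simp⟩
  have g := fun i j => congrFun (congrFun hW i) j
  have e1 : e = 1 := by
    have := g (.inl 0) (.inl 0)
    simpa [Wm, W, ofRows, ix, eq_comm] using this
  subst e1
  obtain ⟨p, q, c⟩ := v
  obtain ⟨p', q', c'⟩ := v'
  refine ⟨Prod.ext ?_ (Prod.ext ?_ ?_), Subtype.ext ?_⟩
  · simpa [Wm, W, ofRows, ix] using g (.inl 1) (.inr 0)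
  · simpa [Wm, W, ofRows, ix] using g (.inr 1) (.inr 0)
  · simpa [Wm, W, ofRows, ix] using g (.inl 0) (.inr 0)
  · ext i j
    fin_cases i <;> fin_cases j
    · simpa [Wm, W, ofRows, ix] using g (.inl 1) (.inl 1)
    · simpa [Wm, W, ofRows, ix] using g (.inl 1) (.inr 1)
    · simpa [Wm, W, ofRows, ix] using g (.inr 1) (.inl 1)
    · simpa [Wm, W, ofRows, ix] using g (.inr 1) (.inr 1)

theorem Wm_trans_pow (c : F) (k : ℕ) : Wm ((0 : F), 0, c) 1 ^ k = Wm ((0 : F), 0, (k : F) * c) 1 := by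
  induction k with
  | zero =>
    refine Subtype.ext ?_
    show (1 : Matrix _ _ F) = W _ _ _ _ _ _ _
    simp [W_one]
  | succ k ih =>
    rw [pow_succ, ih, Wm_mul]
    congr 1
    · simp [vmul]; ring
    · simp

variable [Finite F]

theorem centralizer_trans {p : ℕ} [Fact p.Prime] [CharP F p] {c : F} (hc : c ≠ 0) (g : Cfsg.PSp 2 F) :
    g ∈ Subgroup.centralizer ({π (Wm ((0 : F), 0, c) 1)} : Set (Cfsg.PSp 2 F)) ↔
      ∃ v A, π (Wm v A) = g := by
  have hpow : Wm ((0 : F), 0, c) 1 ^ p ^ 1 = 1 := by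
    rw [pow_one, Wm_trans_pow, CharP.cast_eq_zero, zero_mul]
    exact Subtype.ext (by show W _ _ _ _ _ _ _ = 1; simp [W_one])
  constructor
  · intro hg
    obtain ⟨g, rfl⟩ := QuotientGroup.mk'_surjective _ g
    have h := Subgroup.mem_centralizer_singleton_iff.mp hg
    have h1 : g * Wm ((0 : F), 0, c) 1 * g⁻¹ = Wm ((0 : F), 0, c) 1 := by
      refine eq_of_mk (p := p) (k := 1) (l := 1) (by rw [conj_pow, hpow]; group) hpow ?_
      rw [map_mul, map_mul, map_inv, mul_inv_eq_iff_eq_mul]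
      exact h
    have h2 : g.1 * W 0 0 c 1 0 0 1 = W 0 0 c 1 0 0 1 * g.1 := by
      have := congrArg (fun z => z * g) h1
      simp only [inv_mul_cancel_right] at this
      simpa [Wm] using congrArg Subtype.val this
    have h3 : g.1 * W 0 0 1 1 0 0 1 = W 0 0 1 1 0 0 1 * g.1 := by
      have e : ∀ t : F, W 0 0 t 1 0 0 1 = 1 + t • (W 0 0 1 1 0 0 1 - 1) := by
        intro t
        ext i j
        rcases i with i | i <;> rcases j with j | j <;> fin_cases i <;> fin_cases j <;>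
          simp [W, ofRows, ix]
      rw [e c, Matrix.mul_add, Matrix.add_mul, Matrix.mul_one, Matrix.one_mul, Matrix.mul_smul,
        Matrix.smul_mul, add_right_inj] at h2
      have := smul_right_injective _ hc h2
      simp only [Matrix.mul_sub, Matrix.sub_mul, Matrix.mul_one, Matrix.one_mul] at this
      exact sub_left_injective this
    obtain ⟨e, p', q', c', a, b, d, h', hee, hdet, hgW⟩ := exists_W g.2 h3
    refine ⟨(p', q', c'), ⟨!![a, b; d, h'], by rw [Matrix.det_fin_two]; simpa using hdet⟩, ?_⟩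
    have hE : (Wm (p', q', c') ⟨!![a, b; d, h'], by rw [Matrix.det_fin_two]; simpa using hdet⟩).1 =
        W p' q' c' a b d h' := by simp [Wm]
    rcases mul_eq_zero.mp (show (e - 1) * (e + 1) = 0 by linear_combination hee) with k | k
    · congr 1
      refine Subtype.ext ?_
      rw [hE, hgW, sub_eq_zero.mp k, one_smul]
    · refine QuotientGroup.eq.mpr (mem_center_iff.mpr (Or.inr ?_))
      have hg' : g = Wm (p', q', c') ⟨!![a, b; d, h'], by rw [Matrix.det_fin_two]; simpa using hdet⟩ *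
          ⟨-1, SymplecticGroup.neg_mem (one_mem _)⟩ := Subtype.ext (by
        show g.1 = _ * (-1 : Matrix _ _ F)
        rw [hE, hgW, eq_neg_of_add_eq_zero_left k]; simp)
      rw [hg', inv_mul_cancel_left]
  · rintro ⟨v, A, rfl⟩
    refine Subgroup.mem_centralizer_singleton_iff.mpr ?_
    rw [← map_mul, ← map_mul, Wm_mul, Wm_mul]
    congr 2
    · obtain ⟨a, b, d⟩ := v
      simp [vmul]
      ring
    · simp

theorem eq_W_of_pointRad {s : Sp} (hs : s ∈ pointRad (F := F) (0 : Fin 2)) :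
    ∃ a b c : F, s = Wm (a, b, c) 1 := by
  obtain ⟨he, hv⟩ := hs
  have hcol : ∀ (i j : Fin 2 ⊕ Fin 2), s.1 i j = (s • (Pi.single j 1 : Fin 2 ⊕ Fin 2 → F)) i :=
    fun i j => (congrFun (Matrix.mulVec_single_one s.1 j) i).symm
  have c0 : ∀ i, s.1 i (.inl 0) = (eV (0 : Fin 2) : Fin 2 ⊕ Fin 2 → F) i := fun i => by
    rw [hcol]; exact congrFun he i
  obtain ⟨x1, h1⟩ := hv (Pi.single (.inl 1) 1) (by rw [eV, form_single_inl]; simp)
  obtain ⟨x2, h2⟩ := hv (Pi.single (.inr 1) 1) (by rw [eV, form_single_inl]; simp)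
  have c1 : ∀ i, s.1 i (.inl 1) = ((Pi.single (.inl 1) 1 + x1 • eV 0 : Fin 2 ⊕ Fin 2 → F)) i := fun i => by
    rw [hcol, h1]
  have c3 : ∀ i, s.1 i (.inr 1) = ((Pi.single (.inr 1) 1 + x2 • eV 0 : Fin 2 ⊕ Fin 2 → F)) i := fun i => by
    rw [hcol, h2]
  have hr : s.1 (.inr 0) (.inr 0) = 1 := by
    have h := mem_cols s.2 (.inl 0) (.inr 0)
    simp [Fin.sum_univ_two, c0, eV, Matrix.J, Matrix.fromBlocks] at h
    linear_combination h
  have hcomm : s.1 * W 0 0 1 1 0 0 1 = W 0 0 1 1 0 0 1 * s.1 := by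
    ext i j
    rcases i with i | i <;> rcases j with j | j <;> fin_cases i <;> fin_cases j <;>
      simp [W, ofRows, ix, Matrix.mul_apply, Fintype.sum_sum_type, Fin.sum_univ_two, c0, c1, c3, hr, eV] <;>
      ring
  obtain ⟨e, p', q', c', a, b, d, h', hee, hdet, hgW⟩ := exists_W s.2 hcomm
  have g := fun i j => congrFun (congrFun hgW i) j
  have e1 : e = 1 := by simpa [W, ofRows, ix, c0, eV] using (g (.inl 0) (.inl 0)).symm
  subst e1
  refine ⟨p', q', c', Subtype.ext ?_⟩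
  rw [hgW, one_smul]
  show W p' q' c' a b d h' = W _ _ _ _ _ _ _
  have ha : a = 1 := by simpa [W, ofRows, ix, c1, eV] using (g (.inl 1) (.inl 1)).symm
  have hb : b = 0 := by simpa [W, ofRows, ix, c3, eV] using (g (.inl 1) (.inr 1)).symm
  have hd : d = 0 := by simpa [W, ofRows, ix, c1, eV] using (g (.inr 1) (.inl 1)).symm
  have hh : h' = 1 := by simpa [W, ofRows, ix, c3, eV] using (g (.inr 1) (.inr 1)).symm
  simp [ha, hb, hd, hh]

theorem W_mem_pointRad (v : F × F × F) : Wm v 1 ∈ pointRad (F := F) (0 : Fin 2) := by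
  obtain ⟨a, b, c⟩ := v
  refine ⟨?_, fun w hw => ⟨-b * w (.inl 1) + a * w (.inr 1), ?_⟩⟩
  · funext k
    show ((Wm (a, b, c) 1).1 *ᵥ eV 0) k = _
    rcases k with k | k <;> fin_cases k <;>
      simp [Wm, W, ofRows, ix, eV, Matrix.mulVec, dotProduct, Fintype.sum_sum_type, Fin.sum_univ_two]
  · rw [eV, form_single_inl, one_mul, neg_eq_zero] at hw
    funext k
    show ((Wm (a, b, c) 1).1 *ᵥ w) k = _
    rcases k with k | k <;> fin_cases k <;>
      simp [Wm, W, ofRows, ix, eV, Matrix.mulVec, dotProduct, Fintype.sum_sum_type, Fin.sum_univ_two, hw] <;>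
      ring

theorem exists_model {p : ℕ} [Fact p.Prime] [CharP F p] (h2 : (2 : F) ≠ 0) (x : Cfsg.PSp 2 F)
    (hx : orderOf x = p) (Px : Sylow p (Cfsg.PSp 2 F)) (hxP : x ∈ (Px : Subgroup (Cfsg.PSp 2 F)))
    (hxc : ∀ y ∈ (Px : Subgroup (Cfsg.PSp 2 F)), y * x = x * y) :
    ∃ f : F × F × F → Matrix.SpecialLinearGroup (Fin 2) F → Cfsg.PSp 2 F,
      (∀ v v' A A', f v A = f v' A' → v = v' ∧ A = A') ∧
      (∀ v v' A A', f v A * f v' A' = f (vmul v A v') (A * A')) ∧
      ∀ g, g ∈ Subgroup.centralizer ({x} : Set (Cfsg.PSp 2 F)) ↔ ∃ v A, f v A = g := by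
  obtain ⟨S, hS⟩ := exists_sylow (F := F) (m := 2) (by norm_num) p
  obtain ⟨g, hg⟩ := MulAction.exists_smul_eq (Cfsg.PSp 2 F) Px S
  set y := g * x * g⁻¹ with hy
  have hSm : ∀ z, z ∈ (S : Subgroup (Cfsg.PSp 2 F)) ↔ g⁻¹ * z * g ∈ (Px : Subgroup (Cfsg.PSp 2 F)) := by
    intro z
    rw [← hg, Sylow.smul_def, Sylow.pointwise_smul_def, Subgroup.mem_pointwise_smul_iff_inv_smul_mem]
    simp [MulAut.smul_def, MulAut.inv_def]
  have hyS : y ∈ (S : Subgroup (Cfsg.PSp 2 F)) := by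
    rw [hSm, show g⁻¹ * y * g = x by rw [hy]; group]; exact hxP
  have hyc : ∀ z ∈ (S : Subgroup (Cfsg.PSp 2 F)), z * y = y * z := by
    intro z hz
    have h := hxc _ ((hSm z).mp hz)
    calc z * y = g * ((g⁻¹ * z * g) * x) * g⁻¹ := by rw [hy]; group
      _ = g * (x * (g⁻¹ * z * g)) * g⁻¹ := by rw [h]
      _ = y * z := by rw [hy]; group
  have hyp : y ^ p ^ 1 = 1 := by
    rw [pow_one, hy, conj_pow, ← hx, pow_orderOf_eq_one]; group
  have hrad : ∀ u ∈ pointRad (F := F) (0 : Fin 2), π u ∈ (S : Subgroup (Cfsg.PSp 2 F)) := fun u hu => by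
    rw [hS]; exact ⟨u, pointRad_le_upper 0 rfl hu, rfl⟩
  obtain ⟨s, hs, hsy⟩ := centralizer_pointRad (p := p) (0 : Fin 2) (x := y) (by
    rintro _ ⟨u, hu, rfl⟩
    exact (hyc _ (hrad u hu)).symm) hyp
  obtain ⟨a, b, c, rfl⟩ := eq_W_of_pointRad hs
  have hcomm : ∀ v : F × F × F, Wm (a, b, c) 1 * Wm v 1 = Wm v 1 * Wm (a, b, c) 1 := by
    intro v
    have hm := W_mem_pointRad v
    refine mk_injOn_upper (p := p) (mul_mem (pointRad_le_upper 0 rfl hs) (pointRad_le_upper 0 rfl hm))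
      (mul_mem (pointRad_le_upper 0 rfl hm) (pointRad_le_upper 0 rfl hs)) ?_
    rw [map_mul, map_mul, hsy]
    exact (hyc _ (hrad _ hm)).symm
  have key : ∀ v : F × F × F, vmul (a, b, c) 1 v = vmul v 1 (a, b, c) := by
    intro v
    have := congrArg π (hcomm v)
    rw [Wm_mul, Wm_mul] at this
    exact (Wm_inj h2 this).1
  have ha : a = 0 := by
    have := congrArg (fun w => w.2.2) (key (0, 1, 0))
    simp [vmul] at this
    exact mul_left_cancel₀ h2 (by linear_combination this)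
  have hb : b = 0 := by
    have := congrArg (fun w => w.2.2) (key (1, 0, 0))
    simp [vmul] at this
    exact mul_left_cancel₀ h2 (by linear_combination -this)
  subst ha hb
  have hc : c ≠ 0 := by
    rintro rfl
    have h1 : y = 1 := by
      rw [← hsy, show Wm ((0 : F), 0, 0) 1 = (1 : Sp) from Subtype.ext (by
        show W _ _ _ _ _ _ _ = 1; simp [W_one]), map_one]
    have : x = 1 := by
      calc x = g⁻¹ * y * g := by rw [hy]; group
        _ = 1 := by rw [h1]; group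
    rw [this, orderOf_one] at hx
    exact (Fact.out : p.Prime).one_lt.ne hx
  refine ⟨fun v A => g⁻¹ * π (Wm v A) * g, fun v v' A A' h => ?_, fun v v' A A' => ?_, fun z => ?_⟩
  · exact Wm_inj h2 (mul_left_cancel (mul_right_cancel h))
  · show g⁻¹ * π (Wm v A) * g * (g⁻¹ * π (Wm v' A') * g) = g⁻¹ * π (Wm (vmul v A v') (A * A')) * g
    rw [← Wm_mul, map_mul]; group
  · have hiff : z ∈ Subgroup.centralizer ({x} : Set (Cfsg.PSp 2 F)) ↔
        g * z * g⁻¹ ∈ Subgroup.centralizer ({π (Wm ((0 : F), 0, c) 1)} : Set (Cfsg.PSp 2 F)) := by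
      rw [hsy, Subgroup.mem_centralizer_singleton_iff, Subgroup.mem_centralizer_singleton_iff, hy]
      constructor
      · intro h
        calc g * z * g⁻¹ * (g * x * g⁻¹) = g * (z * x) * g⁻¹ := by group
          _ = g * (x * z) * g⁻¹ := by rw [h]
          _ = _ := by group
      · intro h
        calc z * x = g⁻¹ * (g * z * g⁻¹ * (g * x * g⁻¹)) * g := by group
          _ = g⁻¹ * (g * x * g⁻¹ * (g * z * g⁻¹)) * g := by rw [h]
          _ = _ := by group
    rw [hiff, centralizer_trans (p := p) hc]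
    constructor
    · rintro ⟨v, A, e⟩
      exact ⟨v, A, by show g⁻¹ * π (Wm v A) * g = z; rw [e]; group⟩
    · rintro ⟨v, A, e⟩
      exact ⟨v, A, by rw [← e]; group⟩

end CfsgLib.PSpFourNormM
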