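import Cfsg.Agent.PSpFourNormM.Sym

/-!
Subgroups of `Sym(F³)` of additive maps containing the torus and unipotent group of forms:
the orbit of the line `⟨(1,0,0)⟩`.
-/

set_option autoImplicit false
set_option linter.unusedSectionVars false
set_option linter.style.haveILetI false

open scoped Classical

namespace CfsgLib.PSpFourNormM

variable {F : Type*} [Field F] [Fintype F]

/-- The hypotheses on the group induced on `M`. -/
structure Hyp (Nb : Subgroup (Equiv.Perm (V F))) (p : ℕ) : Prop where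
  card_mod : Fintype.card F % 4 = 3
  prime : p.Prime
  char : CharP F p
  add : ∀ g ∈ Nb, ∀ u v : V F, g (u + v) = g u + g v
  s_mem : ∀ t : F, sU t ∈ Nb
  h_mem : ∀ l : Fˣ, hT l ∈ Nb
  stab : ∀ g ∈ Nb, ∀ a : F, a ≠ 0 → g (a, 0, 0) = (a, 0, 0) → ∃ t : F, ∃ l : Fˣ, g = sU t * hT l
  notrans : ¬ ∀ a : F, a ≠ 0 → ∀ a' : F, a' ≠ 0 → ∃ g ∈ Nb, g (a, 0, 0) = (a', 0, 0)
  move : ∃ g ∈ Nb, ∃ a : F, (g (a, 0, 0)).2 ≠ 0
  sylow : ∀ x ∈ Nb, orderOf x = p → ∃ g ∈ Nb, ∃ t : F, g * x * g⁻¹ = sU t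

/-- The base line. -/
def Z0 (F : Type*) [Field F] : Set (V F) := {v | v.2 = 0}

/-- The lines in the orbit. -/
def IsPt (Nb : Subgroup (Equiv.Perm (V F))) (P : Set (V F)) : Prop := ∃ g ∈ Nb, P = g '' Z0 F

/-- The involution. -/
def jT (F : Type*) [Field F] : Equiv.Perm (V F) := hT (-1 : Fˣ)

@[simp] theorem jT_apply (a b c : F) : jT F (a, b, c) = (a, -b, c) := by simp [jT]

theorem jT_mul_self : jT F * jT F = 1 := by rw [jT, ← hT_mul]; simp [hT_one]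

theorem mem_Z0 {v : V F} : v ∈ Z0 F ↔ ∃ a, v = (a, 0, 0) := by
  obtain ⟨a, b, c⟩ := v
  simp [Z0]

theorem sh_fix (t : F) (l : Fˣ) (a : F) : (sU t * hT l) (a, 0, 0) = (a, 0, 0) := by simp [sh_apply]

theorem sh_fix_Z0 (t : F) (l : Fˣ) {v : V F} (hv : v ∈ Z0 F) : (sU t * hT l) v = v := by
  obtain ⟨a, rfl⟩ := mem_Z0.mp hv
  exact sh_fix t l a

theorem conj_jT (a : F) : sU a * jT F * (sU a)⁻¹ = sU (a + a) * hT (-1) := by
  rw [sU_inv, jT, mul_assoc, hT_sU, ← mul_assoc, ← sU_add]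
  simp

theorem image_mul (g h : Equiv.Perm (V F)) (P : Set (V F)) : (g * h) '' P = g '' (h '' P) := by
  rw [Equiv.Perm.coe_mul, Set.image_comp]

theorem inv_image (g : Equiv.Perm (V F)) (P : Set (V F)) : (g⁻¹ : Equiv.Perm (V F)) '' (g '' P) = P := by
  rw [← image_mul, inv_mul_cancel, Equiv.Perm.coe_one, Set.image_id]

namespace Hyp

variable {Nb : Subgroup (Equiv.Perm (V F))} {p : ℕ} (H : Hyp Nb p)
include H

theorem two : (2 : F) ≠ 0 := two_ne H.card_mod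

theorem j_mem : jT F ∈ Nb := H.h_mem _

theorem map_zero {g : Equiv.Perm (V F)} (hg : g ∈ Nb) : g 0 = 0 := by
  have := H.add g hg 0 0
  simpa using this

theorem map_neg {g : Equiv.Perm (V F)} (hg : g ∈ Nb) (v : V F) : g (-v) = -g v := by
  have := H.add g hg v (-v)
  rw [add_neg_cancel, H.map_zero hg] at this
  exact eq_neg_of_add_eq_zero_right this.symm

theorem map_sub {g : Equiv.Perm (V F)} (hg : g ∈ Nb) (u v : V F) : g (u - v) = g u - g v := by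
  rw [sub_eq_add_neg, H.add g hg, H.map_neg hg, sub_eq_add_neg]

theorem eq_zero_of_map {g : Equiv.Perm (V F)} (hg : g ∈ Nb) {v : V F} (h : g v = 0) : v = 0 :=
  g.injective (h.trans (H.map_zero hg).symm)

theorem mem_Z0_of_fixed {v : V F} (h1 : sU (1 : F) v = v) (h2 : jT F v = v) : v ∈ Z0 F := by
  obtain ⟨a, b, c⟩ := v
  simp only [sU_apply, jT_apply, Prod.mk.injEq, one_mul, mul_one, true_and, and_true] at h1 h2
  obtain ⟨-, hc⟩ := h1
  have hb : b = 0 := mul_left_cancel₀ H.two (by linear_combination -h2)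
  simp [Z0, hb, (add_eq_left.mp hc)]

theorem map_Z0 {g : Equiv.Perm (V F)} (hg : g ∈ Nb) {a : F} (ha : a ≠ 0)
    (h : g (a, 0, 0) ∈ Z0 F) : g '' Z0 F = Z0 F := by
  have key : ∀ x ∈ Nb, x (g (a, 0, 0)) = g (a, 0, 0) → ∀ v ∈ Z0 F, x (g v) = g v := by
    intro x hx hfix v hv
    obtain ⟨t, l, he⟩ := H.stab (g⁻¹ * x * g) (mul_mem (mul_mem (inv_mem hg) hx) hg) a ha (by
      simp [Equiv.Perm.mul_apply, hfix])
    have := congrArg g (sh_fix_Z0 t l hv)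
    rw [← he] at this
    simpa [Equiv.Perm.mul_apply] using this
  have hsub : g '' Z0 F ⊆ Z0 F := by
    rintro _ ⟨v, hv, rfl⟩
    refine H.mem_Z0_of_fixed (key _ (H.s_mem 1) ?_ v hv) (key _ H.j_mem ?_ v hv)
    · have := sh_fix_Z0 (1 : F) 1 h; rwa [hT_one, mul_one] at this
    · have := sh_fix_Z0 (0 : F) (-1) h; rwa [sU_zero, one_mul] at this
  exact Set.eq_of_subset_of_ncard_le hsub (le_of_eq (Set.ncard_image_of_injective _ g.injective).symm)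

theorem ti {P Q : Set (V F)} (hP : IsPt Nb P) (hQ : IsPt Nb Q) {v : V F} (hv : v ≠ 0)
    (h1 : v ∈ P) (h2 : v ∈ Q) : P = Q := by
  obtain ⟨g, hg, rfl⟩ := hP
  obtain ⟨g', hg', rfl⟩ := hQ
  obtain ⟨u, hu, rfl⟩ := h1
  obtain ⟨u', hu', he⟩ := h2
  obtain ⟨a, rfl⟩ := mem_Z0.mp hu
  obtain ⟨a', rfl⟩ := mem_Z0.mp hu'
  have ha : a ≠ 0 := by
    rintro rfl
    exact hv (H.map_zero hg)
  have := H.map_Z0 (mul_mem (inv_mem hg') hg) ha (by
    rw [Equiv.Perm.mul_apply, ← he, Equiv.Perm.inv_def, Equiv.symm_apply_apply]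
    exact mem_Z0.mpr ⟨a', rfl⟩)
  conv_rhs => rw [← this]
  rw [← image_mul, mul_inv_cancel_left]

theorem isPt_Z0 : IsPt Nb (Z0 F) := ⟨1, one_mem _, by simp⟩

theorem isPt_image {P : Set (V F)} (hP : IsPt Nb P) {x : Equiv.Perm (V F)} (hx : x ∈ Nb) :
    IsPt Nb (x '' P) := by
  obtain ⟨g, hg, rfl⟩ := hP
  exact ⟨x * g, mul_mem hx hg, (image_mul _ _ _).symm⟩

theorem pt_sub {P : Set (V F)} (hP : IsPt Nb P) {u v : V F} (hu : u ∈ P) (hv : v ∈ P) :
    u - v ∈ P := by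
  obtain ⟨g, hg, rfl⟩ := hP
  obtain ⟨u', hu', rfl⟩ := hu
  obtain ⟨v', hv', rfl⟩ := hv
  refine ⟨u' - v', ?_, H.map_sub hg _ _⟩
  simp only [Z0, Set.mem_setOf_eq] at hu' hv' ⊢
  simp [hu', hv']

theorem pt_zero {P : Set (V F)} (hP : IsPt Nb P) : (0 : V F) ∈ P := by
  obtain ⟨g, hg, rfl⟩ := hP
  exact ⟨0, rfl, H.map_zero hg⟩

theorem pt_add {P : Set (V F)} (hP : IsPt Nb P) {u v : V F} (hu : u ∈ P) (hv : v ∈ P) :
    u + v ∈ P := by
  have := H.pt_sub hP hu (H.pt_sub hP (H.pt_zero hP) hv)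
  rwa [zero_sub, sub_neg_eq_add] at this

theorem pointwise {P : Set (V F)} (hP : IsPt Nb P) {x : Equiv.Perm (V F)} (hx : x ∈ Nb) {v : V F}
    (hv : v ≠ 0) (hvP : v ∈ P) (h : x v = v) {u : V F} (hu : u ∈ P) : x u = u := by
  obtain ⟨g, hg, rfl⟩ := hP
  obtain ⟨v', hv', rfl⟩ := hvP
  obtain ⟨u', hu', rfl⟩ := hu
  obtain ⟨a, rfl⟩ := mem_Z0.mp hv'
  have ha : a ≠ 0 := by
    rintro rfl
    exact hv (H.map_zero hg)
  obtain ⟨t, l, he⟩ := H.stab (g⁻¹ * x * g) (mul_mem (mul_mem (inv_mem hg) hx) hg) a ha (by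
    simp [Equiv.Perm.mul_apply, h])
  have := congrArg g (sh_fix_Z0 t l hu')
  rw [← he] at this
  simpa [Equiv.Perm.mul_apply] using this

theorem invol {t : Equiv.Perm (V F)} (ht : t ∈ Nb) (h1 : t * t = 1) (h2 : t ≠ 1) {a : F}
    (ha : a ≠ 0) (hfix : t (a, 0, 0) = (a, 0, 0)) : ∃ b : F, t = sU b * jT F * (sU b)⁻¹ := by
  obtain ⟨s, l, rfl⟩ := H.stab t ht a ha hfix
  rcases sh_sq_eq_one H.two h1 with ⟨rfl, rfl⟩ | rfl
  · simp [sU_zero, hT_one] at h2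
  · refine ⟨s / 2, ?_⟩
    rw [conj_jT, show s / 2 + s / 2 = s by rw [← two_mul, mul_div_cancel₀ s H.two]]

theorem jT_ne : jT F ≠ 1 := by
  intro h
  have := congrFun (congrArg DFunLike.coe h) ((0, 1, 0) : V F)
  simp at this
  exact H.two (by linear_combination -this)

theorem line_b_not_pt : ¬ IsPt Nb {v : V F | v.1 = 0 ∧ v.2.2 = 0} := by
  rintro ⟨g, hg, he⟩
  apply H.notrans
  intro a ha a' ha'
  have h1 : ∀ a : F, a ≠ 0 → ∃ b : F, b ≠ 0 ∧ g (a, 0, 0) = (0, b, 0) := by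
    intro a ha
    have hm : g (a, 0, 0) ∈ g '' Z0 F := ⟨_, mem_Z0.mpr ⟨a, rfl⟩, rfl⟩
    rw [← he] at hm
    have hne : g (a, 0, 0) ≠ 0 := fun e => ha (by simpa using H.eq_zero_of_map hg e)
    revert hm hne
    generalize g (a, 0, 0) = w
    intro hm hne
    obtain ⟨x, y, z⟩ := w
    obtain ⟨rfl, rfl⟩ := hm
    exact ⟨y, fun e => hne (by simp [e]), rfl⟩
  obtain ⟨b, hb, e1⟩ := h1 a ha
  obtain ⟨b', hb', e2⟩ := h1 a' ha'
  refine ⟨g⁻¹ * hT (Units.mk0 (b' / b) (div_ne_zero hb' hb)) * g,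
    mul_mem (mul_mem (inv_mem hg) (H.h_mem _)) hg, ?_⟩
  rw [Equiv.Perm.mul_apply, Equiv.Perm.mul_apply, e1]
  simp only [hT_apply, Units.val_mk0, div_mul_cancel₀ b' hb, mul_zero]
  rw [← e2, Equiv.Perm.inv_def, Equiv.symm_apply_apply]

/-- No other point meets the plane `c = 0`. -/
theorem c_zero {P : Set (V F)} (hP : IsPt Nb P) (hne : P ≠ Z0 F) {v : V F} (hv : v ∈ P)
    (hc : v.2.2 = 0) : v = 0 := by
  obtain ⟨a, b, c⟩ := v
  simp only at hc
  subst hc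
  by_contra hv0
  by_cases hb : b = 0
  · subst hb
    exact hne (H.ti hP H.isPt_Z0 hv0 hv (mem_Z0.mpr ⟨a, rfl⟩))
  set Q := sU (-a / (2 * b)) '' P with hQdef
  have hQ : IsPt Nb Q := H.isPt_image hP (H.s_mem _)
  have h2 := H.two
  have hv1 : ((0, b, 0) : V F) ∈ Q := ⟨(a, b, 0), hv, by
    simp only [sU_apply, mul_zero, add_zero, Prod.mk.injEq, and_self, and_true]
    field_simp
    ring⟩
  have hv1' : ((0, b, 0) : V F) ≠ 0 := by simp [hb]
  have hjQ : jT F '' Q = Q := by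
    refine H.ti (H.isPt_image hQ H.j_mem) hQ (v := (0, -b, 0)) (by simp [hb]) ⟨_, hv1, by simp⟩ ?_
    have := H.pt_sub hQ (H.pt_zero hQ) hv1
    simpa using this
  have hQL : Q = {v : V F | v.1 = 0 ∧ v.2.2 = 0} := by
    refine Set.eq_of_subset_of_ncard_le ?_ ?_
    · rintro ⟨x, y, z⟩ hy
      have hy' : jT F (x, y, z) ∈ Q := hjQ ▸ Set.mem_image_of_mem _ hy
      have hs := H.pt_add hQ hy hy'
      by_contra hxz
      have hne0 : (x, y, z) + jT F (x, y, z) ≠ 0 := by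
        intro e
        simp at e
        obtain ⟨e1, e2⟩ := e
        exact hxz ⟨mul_left_cancel₀ h2 (by linear_combination e1),
          mul_left_cancel₀ h2 (by linear_combination e2)⟩
      have := H.pointwise hQ H.j_mem hne0 hs (by simp) hv1
      simp at this
      exact hb (mul_left_cancel₀ h2 (by linear_combination -this))
    · obtain ⟨g, hg, e⟩ := hQ
      rw [e, Set.ncard_image_of_injective _ g.injective]
      refine le_of_eq ?_
      rw [Set.ncard_congr (fun (v : V F) _ => ((v.2.1, (0 : F), (0 : F)) : V F))]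
      · rintro ⟨x, y, z⟩ -; simp [Z0]
      · rintro ⟨x, y, z⟩ ⟨x', y', z'⟩ ⟨rfl, rfl⟩ ⟨rfl, rfl⟩ e; simp_all
      · rintro ⟨x, y, z⟩ hz
        simp only [Z0, Set.mem_setOf_eq, Prod.mk_eq_zero] at hz
        obtain ⟨rfl, rfl⟩ := hz
        exact ⟨(0, x, 0), ⟨rfl, rfl⟩, rfl⟩
  exact H.line_b_not_pt (hQL ▸ hQ)

theorem ext_c {P : Set (V F)} (hP : IsPt Nb P) (hne : P ≠ Z0 F) {u v : V F} (hu : u ∈ P)
    (hv : v ∈ P) (hc : u.2.2 = v.2.2) : u = v :=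
  sub_eq_zero.mp (H.c_zero hP hne (H.pt_sub hP hu hv) (by simp [hc]))

theorem exists_c {P : Set (V F)} (hP : IsPt Nb P) (hne : P ≠ Z0 F) (c : F) :
    ∃ a b : F, (a, b, c) ∈ P := by
  obtain ⟨g, hg, rfl⟩ := id hP
  let ψ : F → F := fun a => (g (a, 0, 0)).2.2
  have hψ : Function.Injective ψ := fun a a' e => by
    have := g.injective (H.ext_c hP hne ⟨_, mem_Z0.mpr ⟨a, rfl⟩, rfl⟩ ⟨_, mem_Z0.mpr ⟨a', rfl⟩, rfl⟩ e)
    simpa using this
  obtain ⟨a, ha⟩ := (Finite.injective_iff_surjective.mp hψ) c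
  refine ⟨(g (a, 0, 0)).1, (g (a, 0, 0)).2.1, (a, 0, 0), mem_Z0.mpr ⟨a, rfl⟩, ?_⟩
  rw [← ha]

theorem ti_c {P Q : Set (V F)} (hP : IsPt Nb P) (hQ : IsPt Nb Q) {a b c : F} (hc : c ≠ 0)
    (h1 : (a, b, c) ∈ P) (h2 : (a, b, c) ∈ Q) : P = Q :=
  H.ti hP hQ (fun e => hc (congrArg (fun v : V F => v.2.2) e)) h1 h2

/-- A point invariant under the involution lies in its fixed plane. -/
theorem j_fix {P : Set (V F)} (hP : IsPt Nb P) (h : jT F '' P = P) {v : V F} (hv : v ∈ P) :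
    v.2.1 = 0 := by
  by_cases hne : P = Z0 F
  · subst hne
    obtain ⟨a, rfl⟩ := mem_Z0.mp hv
    rfl
  obtain ⟨a, b, c⟩ := v
  have h' : jT F (a, b, c) ∈ P := h ▸ Set.mem_image_of_mem _ hv
  have := H.c_zero hP hne (H.pt_sub hP hv h') (by simp)
  simp at this
  exact mul_left_cancel₀ H.two (by linear_combination this)

theorem j_fix' {P : Set (V F)} (h : ∀ v ∈ P, v.2.1 = 0) {v : V F} (hv : v ∈ P) :
    jT F v = v := by
  obtain ⟨a, b, c⟩ := v
  have : b = 0 := h _ hv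
  simp [this]

theorem exists_ne_zero {P : Set (V F)} (hP : IsPt Nb P) : ∃ v ∈ P, v ≠ (0 : V F) := by
  obtain ⟨g, hg, rfl⟩ := hP
  exact ⟨g (1, 0, 0), ⟨_, mem_Z0.mpr ⟨1, rfl⟩, rfl⟩, fun e => by
    simpa using H.eq_zero_of_map hg e⟩

theorem semireg {P : Set (V F)} (hP : IsPt Nb P) (hne : P ≠ Z0 F) {t : F}
    (h : sU t '' P = P) : t = 0 := by
  by_contra ht
  obtain ⟨⟨a, b, c⟩, hv, hv0⟩ := H.exists_ne_zero hP
  have h' : sU t (a, b, c) ∈ P := h ▸ Set.mem_image_of_mem _ hv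
  have := H.ext_c hP hne h' hv (by simp)
  simp only [sU_apply, Prod.mk.injEq, and_true] at this
  obtain ⟨e1, e2⟩ := this
  have hc : c = 0 := mul_left_cancel₀ ht (by linear_combination e2)
  exact hv0 (H.c_zero hP hne hv hc)

/-- The centraliser of the involution is transitive on the points it fixes. -/
theorem trans_pi {P : Set (V F)} (hP : IsPt Nb P) (hb : ∀ v ∈ P, v.2.1 = 0) :
    ∃ w ∈ Nb, w * jT F = jT F * w ∧ w '' Z0 F = P := by
  obtain ⟨g, hg, rfl⟩ := hP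
  have hf : (g⁻¹ * jT F * g) (1, 0, 0) = (1, 0, 0) := by
    have := H.j_fix' hb ⟨_, mem_Z0.mpr ⟨1, rfl⟩, rfl⟩
    simp [Equiv.Perm.mul_apply, this]
  obtain ⟨b, he⟩ := H.invol (mul_mem (mul_mem (inv_mem hg) H.j_mem) hg)
    (by rw [show g⁻¹ * jT F * g * (g⁻¹ * jT F * g) = g⁻¹ * (jT F * jT F) * g by group,
      jT_mul_self]; group)
    (fun e => H.jT_ne (by
      calc jT F = g * (g⁻¹ * jT F * g) * g⁻¹ := by group
        _ = 1 := by rw [e]; group)) one_ne_zero hf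
  refine ⟨g * sU b, mul_mem hg (H.s_mem b), ?_, ?_⟩
  · calc g * sU b * jT F = g * (sU b * jT F * (sU b)⁻¹) * sU b := by group
      _ = jT F * (g * sU b) := by rw [← he]; group
  · rw [image_mul]
    congr 1
    refine H.map_Z0 (H.s_mem b) (a := 1) one_ne_zero ?_
    simp [Z0]

end Hyp

end CfsgLib.PSpFourNormM
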