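import Cfsg.Agent.PSpFourNormM.Count
import Cfsg.Agent.Zsigmondy.PrimitivePart

/-!
The number of points is `q + 1`.
-/

set_option autoImplicit false
set_option linter.unusedSectionVars false
set_option linter.style.haveILetI false

open scoped Classical

namespace CfsgLib.PSpFourNormM

/-- A prime divisor of `p ^ e - 1` prime to the lower ones, for the two exponents needed. -/
theorem exists_prime_primitive {p n : ℕ} (hp : p.Prime) (hn : 1 ≤ n) (hq : p ^ n % 4 = 3) {s : ℕ}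
    (hs : s = 4 ∨ s = 6) :
    ∃ r : ℕ, r.Prime ∧ r ∣ p ^ (s * n) - 1 ∧ r ≠ p ∧ ∀ i, 1 ≤ i → i < s * n → ¬ r ∣ p ^ i - 1 := by
  have hp2 : 2 ≤ p := hp.two_le
  have hpr : ∀ r : ℕ, r.Prime → r ∣ p ^ (s * n) - 1 → r ≠ p := by
    rintro r hr hd rfl
    have h1 : r ∣ r ^ (s * n) := dvd_pow_self _ (Nat.mul_pos (by omega) hn).ne'
    have := Nat.dvd_sub h1 hd
    rw [Nat.sub_sub_self (Nat.one_le_pow _ _ hr.pos)] at this
    exact hr.not_dvd_one this
  by_cases hx : (p, s * n) ∈ Zsig.exceptions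
  · have hpn : p = 3 ∧ n = 1 := by
      simp only [Zsig.exceptions, List.mem_cons, Prod.mk.injEq, List.not_mem_nil, or_false] at hx
      have hcases : p = 2 ∨ p = 4 ∨ (p = 3 ∧ (s * n = 4 ∨ s * n = 6)) ∨ (p = 5 ∧ s * n = 6) := by tauto
      rcases hcases with rfl | rfl | ⟨rfl, h⟩ | ⟨rfl, h⟩
      · exfalso
        have : 2 ∣ 2 ^ n := dvd_pow_self 2 (by omega)
        omega
      · norm_num at hp
      · refine ⟨rfl, ?_⟩
        rcases hs with rfl | rfl <;> omega
      · exfalso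
        have h1 : n = 1 := by rcases hs with rfl | rfl <;> omega
        subst h1
        norm_num at hq
    obtain ⟨rfl, rfl⟩ := hpn
    rcases hs with rfl | rfl
    · exact ⟨5, by norm_num, by norm_num, by norm_num, fun i h1 h2 => by interval_cases i <;> norm_num⟩
    · exact ⟨7, by norm_num, by norm_num, by norm_num, fun i h1 h2 => by interval_cases i <;> norm_num⟩
  · obtain ⟨m, hm, hcop, hbig⟩ := Zsig.exists_primitive_part (e := s * n) hp2
      (by rcases hs with rfl | rfl <;> omega) hx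
    obtain ⟨r, hr, hrm⟩ := Nat.exists_prime_and_dvd (show m ≠ 1 from fun e => by
      have he : 0 < s * n := Nat.mul_pos (by omega) hn
      rw [e] at hbig
      linarith)
    refine ⟨r, hr, hrm.trans hm, hpr r hr (hrm.trans hm), fun i h1 h2 hd => ?_⟩
    exact hr.not_dvd_one ((hcop i h1 h2).gcd_eq_one ▸ Nat.dvd_gcd hrm hd)

/-- The arithmetic of the count. -/
theorem count_arith {q m k r ε i : ℕ} (hm : m % 2 = 1) (hq : q = 2 * m + 1) {p : ℕ} (hp : p.Prime)
    (hpq : p ∣ q) (h3 : q = 3 → p = 3) (hk : k = ε + i * m) (hε : ε ≤ 1) (hkq : k ≤ q)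
    (hnd : ¬ p ∣ k + 1) (hdiv : k + 1 ∣ (1 + q * (k + r * (q - 1))) * q)
    (hle : k + r * (q - 1) ≤ q) (hpos : k + r * (q - 1) ≠ 0) :
    (k = 1 ∧ r = 0) ∨ (k + r * (q - 1) = q ∧ k ≠ q) ∨ (k = 0 ∧ k + r * (q - 1) = q - 1) := by
  rcases eq_or_ne m 1 with rfl | hm1
  · obtain rfl : q = 3 := by omega
    obtain rfl := h3 rfl
    interval_cases k
    · have : r = 1 := by omega
      subst this; simp
    · rcases (show r = 0 ∨ r = 1 by omega) with rfl | rfl <;> simp
    · omega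
    · have : r = 0 := by omega
      subst this; norm_num at hdiv
  have hm3 : 3 ≤ m := by omega
  have hr : r ≤ 1 := by
    by_contra h
    have : 2 * (q - 1) ≤ r * (q - 1) := Nat.mul_le_mul_right _ (by omega)
    omega
  have hi : i ≤ 2 := by
    by_contra h
    have : 3 * m ≤ i * m := Nat.mul_le_mul_right _ (by omega)
    omega
  obtain ⟨c, hc⟩ := hdiv
  have hc' : (1 + (q : ℤ) * ((k : ℤ) + (r : ℤ) * ((q : ℤ) - 1))) * q = ((k : ℤ) + 1) * c := by
    have := congrArg (fun x : ℕ => (x : ℤ)) hc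
    push_cast [show 1 ≤ q by omega] at this
    exact this
  rcases (show i = 0 ∨ i = 1 ∨ i = 2 by omega) with rfl | rfl | rfl <;>
    rcases (show ε = 0 ∨ ε = 1 by omega) with rfl | rfl <;>
    rcases (show r = 0 ∨ r = 1 by omega) with rfl | rfl <;>
    simp only [zero_mul, one_mul, add_zero, zero_add] at hk hle hpos <;> subst k
  · exact absurd rfl hpos
  · right; right; exact ⟨rfl, by omega⟩
  · left; exact ⟨rfl, rfl⟩
  · right; left; exact ⟨by omega, by omega⟩
  · exfalso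
    subst hq
    push_cast at hc'
    have h2 : ((m : ℤ) + 1) ∣ 2 := ⟨4 * (m : ℤ) ^ 2 + 3 - c, by linear_combination -hc'⟩
    have := Int.le_of_dvd (by norm_num) h2
    omega
  · omega
  · exfalso
    subst hq
    push_cast at hc'
    have h2 : ((m : ℤ) + 2) ∣ 12 := ⟨4 * (m : ℤ) ^ 2 + 7 - c, by linear_combination -hc'⟩
    have h3' : (m + 2) ∣ 12 := by exact_mod_cast h2
    have := Nat.le_of_dvd (by norm_num) h3'
    have h4 : m ≤ 10 := by omega
    interval_cases m <;> omega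
  · omega
  · exact absurd (by rwa [show 2 * m + 1 = q by omega]) hnd
  · omega
  · exfalso
    have hq' : (q : ℤ) = 2 * m + 1 := by exact_mod_cast hq
    push_cast at hc'
    have h2 : ((q : ℤ) + 1) ∣ 2 :=
      ⟨(q : ℤ) ^ 2 - q + 2 - c, by rw [show (1 : ℤ) + 2 * m = q by omega] at hc'; linear_combination -hc'⟩
    have := Int.le_of_dvd (by norm_num) h2
    omega
  · omega

namespace Hyp

variable {F : Type*} [Field F] [Fintype F] {Nb : Subgroup (Equiv.Perm (V F))} {p : ℕ} (H : Hyp Nb p)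
include H

/-- The elements fixing the base point pointwise. -/
def baseStab (H : Hyp Nb p) : Subgroup Nb :=
  MulAction.stabilizer Nb ((1, 0, 0) : V F)

theorem card_baseStab : Nat.card H.baseStab = Fintype.card F * (Fintype.card F - 1) := by
  let φ : F × Fˣ → H.baseStab := fun x =>
    ⟨⟨sU x.1 * hT x.2, mul_mem (H.s_mem _) (H.h_mem _)⟩, by
      show (sU x.1 * hT x.2) ((1, 0, 0) : V F) = (1, 0, 0)
      exact sh_fix _ _ _⟩
  have hφ : Function.Bijective φ := by
    refine ⟨fun x y e => ?_, ?_⟩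
    · have := sh_inj H.two (congrArg (fun z : H.baseStab => (z.1.1 : Equiv.Perm (V F))) e)
      exact Prod.ext this.1 this.2
    · rintro ⟨⟨g, hg⟩, hfix⟩
      obtain ⟨t, l, rfl⟩ := H.stab g hg 1 one_ne_zero hfix
      exact ⟨(t, l), rfl⟩
  rw [← Nat.card_eq_of_bijective φ hφ, Nat.card_prod, Nat.card_units, Nat.card_eq_fintype_card]

theorem zpt_mem : zpt Nb ∈ piSet Nb := inA_Z0

theorem card_pi : (piSet Nb).ncard = (piSet' Nb).ncard + 1 :=
  (Set.ncard_sdiff_singleton_add_one H.zpt_mem).symm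

theorem card_struct : ∃ r : ℕ, Nat.card (Pts Nb) =
    1 + Fintype.card F * ((piSet' Nb).ncard + r * (Fintype.card F - 1)) := by
  -- the translates of the fixed points
  have hbad : {P : Pts Nb | Bad P.1 ∧ P ≠ zpt Nb}.ncard = Fintype.card F * (piSet' Nb).ncard := by
    rw [← Nat.card_coe_set_eq, ← Nat.card_coe_set_eq, ← Nat.card_eq_fintype_card, ← Nat.card_prod]
    have hz : ∀ a : F, sU a '' Z0 F = Z0 F := fun a =>
      H.map_Z0 (H.s_mem a) one_ne_zero (a := 1) (by simp [Z0])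
    let φ : F × piSet' Nb → {P : Pts Nb | Bad P.1 ∧ P ≠ zpt Nb} := fun x =>
      ⟨(⟨sU x.1, H.s_mem _⟩ : Nb) • x.2.1, by
        refine ⟨(bad_sU x.1).mpr ⟨0, ?_⟩, fun e => x.2.2.2 ?_⟩
        · rw [sU_zero, Equiv.Perm.coe_one, Set.image_id]; exact x.2.2.1
        · refine Subtype.ext ?_
          have h1 : sU x.1 '' x.2.1.1 = Z0 F := congrArg Subtype.val e
          show x.2.1.1 = Z0 F
          rw [← inv_image (sU x.1) x.2.1.1, h1, sU_inv, hz]⟩
    refine (Nat.card_eq_of_bijective φ ⟨?_, ?_⟩).symm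
    · rintro ⟨a, P, hP⟩ ⟨b, Q, hQ⟩ e
      have h1 : sU a '' P.1 = sU b '' Q.1 := congrArg (fun z => (z.1.1 : Set (V F))) e
      have hPne : P.1 ≠ Z0 F := fun e' => hP.2 (Subtype.ext e')
      have h2 : sU (a - b) '' P.1 = Q.1 := by
        rw [show a - b = -b + a by ring, sU_add, image_mul, h1, ← image_mul, ← sU_add, neg_add_cancel,
          sU_zero, Equiv.Perm.coe_one, Set.image_id]
      have h3 : sU (-(a - b)) '' P.1 = Q.1 := by
        calc sU (-(a - b)) '' P.1 = sU (-(a - b)) '' (jT F '' P.1) := by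
              rw [(H.inA_iff P.2).mp hP.1]
          _ = jT F '' (sU (a - b) '' P.1) := by
              rw [← image_mul, ← image_mul, jT, hT_sU]
              simp
          _ = Q.1 := by rw [h2, (H.inA_iff Q.2).mp hQ.1]
      have h4 : sU (a - b + (a - b)) '' P.1 = P.1 := by
        rw [sU_add, image_mul, h2, ← h3, ← image_mul, ← sU_add, add_neg_cancel, sU_zero,
          Equiv.Perm.coe_one, Set.image_id]
      have hab : a = b := mul_left_cancel₀ H.two (by linear_combination H.semireg P.2 hPne h4)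
      subst hab
      rw [sub_self, sU_zero, Equiv.Perm.coe_one, Set.image_id] at h2
      exact Prod.ext rfl (Subtype.ext (Subtype.ext h2))
    · rintro ⟨P, ⟨a, ha⟩, hne⟩
      refine ⟨(-a, ⟨(⟨sU a, H.s_mem _⟩ : Nb) • P, ha, fun e => hne (Subtype.ext ?_)⟩), Subtype.ext (Subtype.ext ?_)⟩
      · have h1 : sU a '' P.1 = Z0 F := congrArg Subtype.val e
        show P.1 = Z0 F
        rw [← inv_image (sU a) P.1, h1, sU_inv, hz]
      · show sU (-a) '' (sU a '' P.1) = P.1
        rw [← image_mul, ← sU_add, neg_add_cancel, sU_zero, Equiv.Perm.coe_one, Set.image_id]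
  -- the others
  let R := {P : Pts Nb // ¬ Bad P.1}
  have hinv : ∀ (g : H.baseStab) (P : Pts Nb), ¬ Bad P.1 → ¬ Bad ((g : Nb) • P).1 := by
    rintro ⟨⟨g, hg⟩, hfix⟩ P hP
    obtain ⟨t, l, rfl⟩ := H.stab g hg 1 one_ne_zero hfix
    show ¬ Bad ((sU t * hT l) '' P.1)
    rwa [image_mul, bad_sU, bad_hT_iff]
  letI : MulAction H.baseStab R :=
    { smul := fun g P => ⟨(g : Nb) • P.1, hinv g P.1 P.2⟩
      one_smul := fun P => Subtype.ext (one_smul Nb P.1)
      mul_smul := fun g h P => Subtype.ext (mul_smul (g : Nb) (h : Nb) P.1) }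
  have hfree : ∀ (g : H.baseStab) (P : R), g • P = P → g = 1 := by
    rintro ⟨⟨g, hg⟩, hfix⟩ ⟨P, hP⟩ e
    obtain ⟨t, l, rfl⟩ := H.stab g hg 1 one_ne_zero hfix
    exact Subtype.ext (Subtype.ext (H.free P.2 hP (congrArg (fun z : R => z.1.1) e)))
  obtain ⟨r, hr⟩ := card_dvd_of_free hfree
  rw [H.card_baseStab] at hr
  have hsplit : Nat.card R + {P : Pts Nb | Bad P.1}.ncard = Nat.card (Pts Nb) := by
    rw [show Nat.card R = ({P : Pts Nb | Bad P.1}ᶜ).ncard from Nat.card_coe_set_eq _, add_comm,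
      Set.ncard_add_ncard_compl]
  have hz : {P : Pts Nb | Bad P.1 ∧ P ≠ zpt Nb}.ncard + 1 = {P : Pts Nb | Bad P.1}.ncard :=
    Set.ncard_sdiff_singleton_add_one (show zpt Nb ∈ {P : Pts Nb | Bad P.1} from
      ⟨0, by rw [sU_zero, Equiv.Perm.coe_one, Set.image_id]; exact inA_Z0⟩)
  refine ⟨r, ?_⟩
  rw [← hsplit, ← hz, hbad, hr]
  ring

theorem card_pts_le : Nat.card (Pts Nb) ≤ 1 + Fintype.card F * Fintype.card F := by
  let ψ : {P : Pts Nb // P ≠ zpt Nb} → F × F := fun P =>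
    ((H.exists_c P.1.2 (fun e => P.2 (Subtype.ext e)) 1).choose,
      (H.exists_c P.1.2 (fun e => P.2 (Subtype.ext e)) 1).choose_spec.choose)
  have hψ : Function.Injective ψ := by
    intro P Q e
    have hP : ((ψ P).1, (ψ P).2, (1 : F)) ∈ P.1.1 :=
      (H.exists_c P.1.2 (fun e => P.2 (Subtype.ext e)) 1).choose_spec.choose_spec
    have hQ : ((ψ Q).1, (ψ Q).2, (1 : F)) ∈ Q.1.1 :=
      (H.exists_c Q.1.2 (fun e => Q.2 (Subtype.ext e)) 1).choose_spec.choose_spec
    rw [← e] at hQ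
    exact Subtype.ext (Subtype.ext (H.ti_c P.1.2 Q.1.2 one_ne_zero hP hQ))
  have := Nat.card_le_card_of_injective ψ hψ
  rw [Nat.card_prod, Nat.card_eq_fintype_card (α := F)] at this
  have h1 : Nat.card {P : Pts Nb // P ≠ zpt Nb} = Nat.card (Pts Nb) - 1 := by
    have := Set.ncard_compl ({zpt Nb} : Set (Pts Nb))
    rw [Set.ncard_singleton] at this
    rw [← this, ← Nat.card_coe_set_eq]
    rfl
  omega

theorem one_lt_card_pts : 1 < Nat.card (Pts Nb) := by
  obtain ⟨g, hg, a, ha⟩ := H.move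
  haveI : Nontrivial (Pts Nb) := ⟨⟨(⟨g, hg⟩ : Nb) • zpt Nb, zpt Nb, fun e => ha ?_⟩⟩
  · exact Finite.one_lt_card
  · have h : g '' Z0 F = Z0 F := congrArg Subtype.val e
    exact (h ▸ Set.mem_image_of_mem g (mem_Z0.mpr ⟨a, rfl⟩) : g (a, 0, 0) ∈ Z0 F)

theorem pi'_le : (piSet' Nb).ncard ≤ Fintype.card F := by
  let ψ : piSet' Nb → F := fun P =>
    (H.exists_c P.1.2 (fun e => P.2.2 (Subtype.ext e)) 1).choose
  have hψ : Function.Injective ψ := by
    intro P Q e
    obtain ⟨b, hP⟩ := (H.exists_c P.1.2 (fun e => P.2.2 (Subtype.ext e)) 1).choose_spec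
    obtain ⟨b', hQ⟩ := (H.exists_c Q.1.2 (fun e => Q.2.2 (Subtype.ext e)) 1).choose_spec
    rw [show b = 0 from P.2.1 _ hP] at hP
    rw [show b' = 0 from Q.2.1 _ hQ] at hQ
    have hP' : (ψ P, (0 : F), (1 : F)) ∈ P.1.1 := hP
    have hQ' : (ψ Q, (0 : F), (1 : F)) ∈ Q.1.1 := hQ
    rw [← e] at hQ'
    exact Subtype.ext (Subtype.ext (H.ti_c P.1.2 Q.1.2 one_ne_zero hP' hQ'))
  have := Nat.card_le_card_of_injective ψ hψ
  rwa [Nat.card_coe_set_eq, Nat.card_eq_fintype_card] at this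

/-- The squares act on the fixed points. -/
theorem pi'_form : ∃ ε i : ℕ, ε ≤ 1 ∧
    (piSet' Nb).ncard = ε + i * ((Fintype.card F - 1) / 2) := by
  let A : Set (Pts Nb) := {P | P ∈ piSet' Nb ∧ ¬ ∀ v ∈ P.1, v.1 = 0}
  let B : Set (Pts Nb) := {P | P ∈ piSet' Nb ∧ ∀ v ∈ P.1, v.1 = 0}
  have hB : B.ncard ≤ 1 := by
    refine (Set.ncard_le_one B.toFinite).mpr fun P hP Q hQ => ?_
    have key : ∀ R ∈ B, ((0, 0, 1) : V F) ∈ R.1 := by
      intro R hR
      obtain ⟨a, b, hv⟩ := H.exists_c R.2 (fun e => hR.1.2 (Subtype.ext e)) 1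
      rwa [show a = 0 from hR.2 _ hv, show b = 0 from hR.1.1 _ hv] at hv
    exact Subtype.ext (H.ti_c P.2 Q.2 one_ne_zero (key P hP) (key Q hQ))
  have hsum : (piSet' Nb).ncard = B.ncard + A.ncard := by
    rw [← Set.ncard_union_eq ?_ B.toFinite A.toFinite]
    · congr 1
      ext P
      simp only [A, B, Set.mem_union, Set.mem_setOf_eq]
      tauto
    · rw [Set.disjoint_left]
      exact fun P h h' => h'.2 h.2
  let hm : sqs F →* Nb :=
    { toFun := fun l => ⟨hT l.1, H.h_mem _⟩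
      map_one' := Subtype.ext hT_one
      map_mul' := fun a b => Subtype.ext (hT_mul _ _) }
  have hz : ∀ l : Fˣ, hT l '' Z0 F = Z0 F := fun l =>
    H.map_Z0 (H.h_mem l) one_ne_zero (a := 1) (by simp [Z0])
  have hinv : ∀ (l : sqs F) (P : Pts Nb), P ∈ A → hm l • P ∈ A := by
    rintro ⟨l, hl⟩ P ⟨⟨hP, hne⟩, h01⟩
    refine ⟨⟨inA_hT hP l, fun e => hne (Subtype.ext ?_)⟩, fun hall => h01 fun v hv => ?_⟩
    · have h1 : hT l '' P.1 = Z0 F := congrArg Subtype.val e
      show P.1 = Z0 F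
      rw [← inv_image (hT l) P.1, h1, hT_inv, hz]
    · obtain ⟨a, b, c⟩ := v
      have := hall _ ⟨_, hv, rfl⟩
      simpa [hm] using this
  letI : MulAction (sqs F) A :=
    { smul := fun l P => ⟨hm l • P.1, hinv l P.1 P.2⟩
      one_smul := fun P => Subtype.ext (by show hm 1 • P.1 = P.1; rw [map_one, one_smul])
      mul_smul := fun a b P => Subtype.ext (by
        show hm (a * b) • P.1 = hm a • (hm b • P.1)
        rw [map_mul, mul_smul]) }
  have hfree : ∀ (l : sqs F) (P : A), l • P = P → l = 1 := by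
    rintro ⟨l, hl⟩ ⟨P, ⟨hP, hne⟩, h01⟩ e
    by_contra hl1
    have hne' : P.1 ≠ Z0 F := fun e => hne (Subtype.ext e)
    have he : hT l '' P.1 = P.1 := congrArg (fun z : A => z.1.1) e
    have hl2 : (l : F) * l - 1 ≠ 0 := by
      intro h0
      rcases mul_self_eq_one_iff.mp (sub_eq_zero.mp h0) with h' | h'
      · exact hl1 (Subtype.ext (Units.ext h'))
      · obtain ⟨s, rfl⟩ := hl
        exact neg_one_ne_sq H.card_mod (s : F) (by simpa [pow_two] using h')
    apply h01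
    intro v hv
    obtain ⟨a, b, c⟩ := v
    obtain ⟨a', b', hv'⟩ := H.exists_c P.2 hne' (c / ((l : F) * l - 1))
    obtain rfl : b' = 0 := hP _ hv'
    have h2 : hT l (a', 0, c / ((l : F) * l - 1)) ∈ P.1 := he ▸ Set.mem_image_of_mem _ hv'
    have h3 := H.pt_sub P.2 h2 hv'
    have h4 := H.ext_c P.2 hne' hv h3 (by simp; field_simp; rw [mul_div_cancel_right₀]; rwa [pow_two])
    rw [h4]
    simp
  have hd := card_dvd_of_free hfree
  rw [card_sqs H.card_mod, Nat.card_coe_set_eq] at hd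
  obtain ⟨i, hi⟩ := hd
  exact ⟨B.ncard, i, hB, by rw [hsum, hi, mul_comm]⟩

theorem no_primitive {n s : ℕ} (hn : 1 ≤ n) (hF : Fintype.card F = p ^ n) (hs : s = 4 ∨ s = 6)
    (hd : ∀ r : ℕ, r.Prime → r ∣ p ^ (s * n) - 1 →
      (∀ i, 1 ≤ i → i < s * n → ¬ r ∣ p ^ i - 1) → r ∣ Nat.card (Pts Nb)) : False := by
  have hq := H.card_mod
  rw [hF] at hq
  obtain ⟨r, hr, hrd, hrp, hri⟩ := exists_prime_primitive H.prime hn hq hs
  haveI := Fact.mk hr
  haveI := Fact.mk H.prime
  obtain ⟨g, hg⟩ := exists_prime_orderOf_dvd_card' r ((hd r hr hrd hri).trans H.card_pts_dvd)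
  set σ : Equiv.Perm (V F) := g.1 with hσ
  have hσr : σ ^ r ^ 1 = 1 := by
    rw [pow_one, hσ, ← Subgroup.coe_pow, ← hg, pow_orderOf_eq_one, Subgroup.coe_one]
  have hσ1 : σ ≠ 1 := fun e => by
    rw [show g = 1 from Subtype.ext e, orderOf_one] at hg
    exact hr.one_lt.ne hg
  let K : AddSubgroup (V F) :=
    { carrier := {v | σ v = v}
      zero_mem' := H.map_zero g.2
      add_mem' := fun {a b} ha hb => by
        show σ (a + b) = a + b
        rw [H.add σ g.2, show σ a = a from ha, show σ b = b from hb]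
      neg_mem' := fun {a} ha => by
        show σ (-a) = -a
        rw [H.map_neg g.2, show σ a = a from ha] }
  have hV : Nat.card (V F) = p ^ (3 * n) := by
    show Nat.card (F × F × F) = _
    rw [Nat.card_prod, Nat.card_prod, Nat.card_eq_fintype_card, hF]
    ring
  obtain ⟨a, ha, hKa⟩ : ∃ a ≤ 3 * n, Nat.card K = p ^ a := by
    have := K.card_addSubgroup_dvd_card
    rw [hV] at this
    obtain ⟨a, ha, e⟩ := (Nat.dvd_prime_pow H.prime).mp this
    exact ⟨a, ha, e⟩
  have hlt : a < 3 * n := by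
    by_contra h
    apply hσ1
    have hK : K = ⊤ := K.eq_top_of_card_eq (by rw [hKa, hV, show a = 3 * n by omega])
    exact Equiv.ext fun v => (hK ▸ AddSubgroup.mem_top v : v ∈ K)
  have hmod := Equiv.Perm.card_compl_support_modEq (p := r) (n := 1) hσr
  have hsup : σ.supportᶜ.card = Nat.card K := by
    rw [← Nat.card_eq_finsetCard]
    refine Nat.card_congr (Equiv.subtypeEquivRight fun v => ?_)
    rw [Finset.mem_compl, Equiv.Perm.mem_support, not_not]
    rfl
  rw [hsup, hKa, ← Nat.card_eq_fintype_card, hV, Nat.modEq_iff_dvd' (Nat.pow_le_pow_right H.prime.pos ha)] at hmod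
  have hfac : p ^ (3 * n) - p ^ a = p ^ a * (p ^ (3 * n - a) - 1) := by
    rw [Nat.mul_sub, mul_one, ← pow_add, Nat.add_sub_cancel' ha]
  rw [hfac] at hmod
  rcases hr.dvd_mul.mp hmod with h | h
  · exact hrp ((Nat.prime_dvd_prime_iff_eq hr H.prime).mp (hr.dvd_of_dvd_pow h))
  · exact hri _ (by omega) (by rcases hs with rfl | rfl <;> omega) h

theorem pts_eq {n : ℕ} (hn : 1 ≤ n) (hF : Fintype.card F = p ^ n) :
    Nat.card (Pts Nb) = Fintype.card F + 1 ∧ (piSet' Nb).ncard = 1 := by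
  obtain ⟨r, hr⟩ := H.card_struct
  obtain ⟨ε, i, hε, hi⟩ := H.pi'_form
  have hle := H.card_pts_le
  have hpos := H.one_lt_card_pts
  have hq := H.card_mod
  have hdiv := H.pi_dvd
  rw [hr, H.card_pi] at hdiv
  have hnd := H.prime_not_dvd_pi
  rw [H.card_pi] at hnd
  have hq0 : 0 < Fintype.card F := Fintype.card_pos
  set k := (piSet' Nb).ncard with hk
  have hle' : k + r * (Fintype.card F - 1) ≤ Fintype.card F := by
    rw [hr] at hle
    exact Nat.le_of_mul_le_mul_left (by omega) hq0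
  have hpos' : k + r * (Fintype.card F - 1) ≠ 0 := by
    intro e
    rw [hr, e, mul_zero] at hpos
    omega
  rcases count_arith (q := Fintype.card F) (m := (Fintype.card F - 1) / 2) (by omega) (by omega) H.prime
    (hF ▸ dvd_pow_self p (by omega)) (fun e => by
      have : p ∣ 3 := e ▸ (hF ▸ dvd_pow_self p (by omega))
      exact (Nat.prime_dvd_prime_iff_eq H.prime Nat.prime_three).mp this)
    hi hε H.pi'_le hnd hdiv hle' hpos' with ⟨h1, h2⟩ | ⟨h1, -⟩ | ⟨h1, h2⟩
  · refine ⟨?_, h1⟩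
    rw [hr, h1, h2]
    ring
  · exfalso
    refine H.no_primitive hn hF (Or.inl rfl) fun r hr' hd hri => ?_
    rw [hr, h1]
    have h2n := hri (2 * n) (by omega) (by omega)
    have e : p ^ (4 * n) - 1 = (p ^ (2 * n) - 1) * (p ^ (2 * n) + 1) := by
      rw [mul_comm (p ^ (2 * n) - 1), ← Nat.sq_sub_sq, ← pow_mul, one_pow]
      ring_nf
    rw [e] at hd
    rw [hF, ← pow_add, ← two_mul, add_comm]
    exact (hr'.dvd_mul.mp hd).resolve_left h2n
  · exfalso
    refine H.no_primitive hn hF (Or.inr rfl) fun r hr' hd hri => ?_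
    rw [hr, h2]
    have h3n := hri (3 * n) (by omega) (by omega)
    have h2n := hri (2 * n) (by omega) (by omega)
    obtain ⟨t, ht⟩ : ∃ t, Fintype.card F = t + 1 := ⟨_, (Nat.succ_pred_eq_of_pos hq0).symm⟩
    have e : p ^ (6 * n) - 1 = (p ^ (3 * n) - 1) * ((Fintype.card F + 1) *
        (1 + Fintype.card F * (Fintype.card F - 1))) := by
      rw [show p ^ (6 * n) = (p ^ (3 * n)) ^ 2 by rw [← pow_mul]; ring_nf]
      rw [show p ^ (3 * n) = Fintype.card F ^ 3 by rw [hF, ← pow_mul, mul_comm]]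
      rw [show (Fintype.card F ^ 3) ^ 2 - 1 = (Fintype.card F ^ 3 + 1) * (Fintype.card F ^ 3 - 1) by
        rw [← Nat.sq_sub_sq, one_pow], mul_comm]
      congr 1
      rw [ht, Nat.add_sub_cancel]
      ring
    rw [e] at hd
    have h4 := (hr'.dvd_mul.mp hd).resolve_left h3n
    refine (hr'.dvd_mul.mp h4).resolve_left fun h5 => h2n ?_
    have e2 : p ^ (2 * n) - 1 = (Fintype.card F + 1) * (Fintype.card F - 1) := by
      rw [← Nat.sq_sub_sq, one_pow, hF, ← pow_mul, mul_comm]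
    rw [e2]
    exact h5.mul_right _

end Hyp

end CfsgLib.PSpFourNormM
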